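import Cfsg.Agent.Lib.Recognition.CycNorm.Abelian
import Cfsg.Agent.Lib.PGroup.CAI.Split
import Cfsg.Agent.Lib.LocalEven.RankOne.Model
import Cfsg.Agent.Lib.Classical.QuadBinary

/-!
# Dihedral Sylow 2-subgroups: no elementary abelian subgroup of order eight
-/

set_option autoImplicit false
set_option linter.dupNamespace false
set_option linter.style.haveILetI false
set_option linter.unusedSectionVars false

namespace CfsgLib.Recognition.CycNorm

open Subgroup

variable {G : Type*} [Group G] [Finite G]

/-- Three pairwise commuting involutions generate at most a four-group. -/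
def NoEight (G : Type*) [Group G] : Prop :=
  ∀ a b c : G, a * a = 1 → b * b = 1 → c * c = 1 → a * b = b * a → a * c = c * a → b * c = c * b →
    a ≠ 1 → b ≠ 1 → a ≠ b → c = 1 ∨ c = a ∨ c = b ∨ c = a * b

theorem NoEight.comap {H : Type*} [Group H] (f : H →* G) (hf : Function.Injective f) (h : NoEight G) :
    NoEight H := by
  intro a b c ha hb hc hab hac hbc ha1 hb1 hne
  rcases h (f a) (f b) (f c) (by rw [← map_mul, ha, map_one]) (by rw [← map_mul, hb, map_one])
      (by rw [← map_mul, hc, map_one]) (by rw [← map_mul, hab, map_mul]) (by rw [← map_mul, hac, map_mul])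
      (by rw [← map_mul, hbc, map_mul]) ((map_ne_one_iff f hf).2 ha1) ((map_ne_one_iff f hf).2 hb1)
      (fun e => hne (hf e)) with e | e | e | e
  · exact Or.inl (hf (e.trans (map_one f).symm))
  · exact Or.inr (Or.inl (hf e))
  · exact Or.inr (Or.inr (Or.inl (hf e)))
  · exact Or.inr (Or.inr (Or.inr (hf (e.trans (map_mul f a b).symm))))

section Dih

variable {S : Subgroup G} {n : ℕ} {r s : G}

theorem DihData.zpowers_le (h : DihData S n r s) : zpowers r ≤ S := Subgroup.zpowers_le.2 h.2.1

theorem DihData.key (h : DihData S n r s) {x y : G} (hx : x ∈ S) (hy : y ∈ S) :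
    x * y ∈ zpowers r ↔ (x ∈ zpowers r ↔ y ∈ zpowers r) := by
  obtain ⟨hn, hr, -, hor, -, -, -, hcard⟩ := h
  have hi : ((zpowers r).subgroupOf S).index = 2 := by
    have h1 := ((zpowers r).subgroupOf S).index_mul_card
    rw [Nat.card_congr (subgroupOfEquivOfLe (Subgroup.zpowers_le.2 hr)).toEquiv, Nat.card_zpowers, hor, hcard] at h1
    exact Nat.eq_of_mul_eq_mul_right (by omega) h1
  have := mul_mem_iff_of_index_two hi (a := (⟨x, hx⟩ : S)) (b := ⟨y, hy⟩)
  simpa [mem_subgroupOf] using this

theorem DihData.cases (h : DihData S n r s) {x : G} (hx : x ∈ S) : x ∈ zpowers r ∨ s * x ∈ zpowers r := by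
  by_cases h1 : x ∈ zpowers r
  · exact Or.inl h1
  · exact Or.inr ((h.key h.2.2.1 hx).2 (iff_of_false h.2.2.2.2.2.2.1 h1))

theorem DihData.conj_s (h : DihData S n r s) {x : G} (hx : x ∈ zpowers r) : s * x * s = x⁻¹ := by
  obtain ⟨-, -, -, -, hss, hsr, -, -⟩ := h
  have hsi : s⁻¹ = s := inv_eq_of_mul_eq_one_right hss
  obtain ⟨k, rfl⟩ := hx
  show s * r ^ k * s = (r ^ k)⁻¹
  calc s * r ^ k * s = s * r ^ k * s⁻¹ := by rw [hsi]
    _ = (r ^ k)⁻¹ := by rw [← conj_zpow, hsi, hsr, inv_zpow]

theorem DihData.sq_of_not_mem (h : DihData S n r s) {x : G} (hx : x ∈ S) (hxr : x ∉ zpowers r) : x * x = 1 := by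
  have h1 := (h.cases hx).resolve_left hxr
  have h2 := h.conj_s h1
  have hss := h.2.2.2.2.1
  calc x * x = (s * (s * x) * s) * (s * x) := by
        rw [← mul_assoc s s x, hss, one_mul, mul_assoc x s (s * x), ← mul_assoc s s x, hss, one_mul]
    _ = 1 := by rw [h2, inv_mul_cancel]

theorem DihData.even (h : DihData S n r s) (hS : IsPGroup 2 S) : 2 ∣ n := by
  haveI : Fact (Nat.Prime 2) := ⟨Nat.prime_two⟩
  obtain ⟨hn, hr, -, hor, -, -, -, -⟩ := h
  obtain ⟨k, hk⟩ := CfsgLib.Invol.exists_orderOf_eq_two_pow hS hr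
  rw [← hor, hk]
  exact dvd_pow_self 2 fun e => by rw [e, pow_zero] at hk; omega

theorem DihData.exists_t (h : DihData S n r s) (hS : IsPGroup 2 S) :
    ∃ t ∈ zpowers r, orderOf t = 2 ∧ ∀ x ∈ S, x * t = t * x := by
  have h2n := h.even hS
  obtain ⟨hn, hr, hs, hor, hss, hsr, -, -⟩ := id h
  refine ⟨r ^ (n / 2), pow_mem (mem_zpowers r) _, ?_, ?_⟩
  · rw [orderOf_pow_of_dvd (by omega) (by rw [hor]; exact Nat.div_dvd_of_dvd h2n), hor, Nat.div_div_self h2n (by omega)]
  intro x hx
  set t := r ^ (n / 2) with ht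
  have htr : t ∈ zpowers r := pow_mem (mem_zpowers r) _
  have htt : t * t = 1 := by
    rw [ht, ← pow_add, ← two_mul, Nat.mul_div_cancel' h2n, ← hor, pow_orderOf_eq_one]
  have hcr : ∀ z ∈ zpowers r, z * t = t * z := by
    rintro _ ⟨j, rfl⟩
    exact (Commute.zpow_left (Commute.pow_right (Commute.refl r) _) j).eq
  have hst : s * t = t * s := by
    have := h.conj_s htr
    rw [inv_eq_of_mul_eq_one_right htt] at this
    calc s * t = s * t * (s * s) := by rw [hss, mul_one]
      _ = s * t * s * s := by group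
      _ = t * s := by rw [this]
  rcases h.cases hx with h1 | h1
  · exact hcr x h1
  · have h2 := hcr _ h1
    calc x * t = s * ((s * x) * t) := by rw [← mul_assoc, ← mul_assoc, hss, one_mul]
      _ = (s * t) * (s * x) := by rw [h2]; group
      _ = t * x := by rw [hst, mul_assoc, ← mul_assoc s s, hss, one_mul]

theorem DihData.equiv (h : DihData S n r s) : Nonempty (S ≃* DihedralGroup n) := by
  obtain ⟨hn, hr, hs, hor, hss, hsr, hns, hcard⟩ := h
  refine CfsgLib.Classical.dihedral_of_rotation (by omega) (r := (⟨r, hr⟩ : S)) (s := ⟨s, hs⟩)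
    (by rw [orderOf_mk]; exact hor) (Subtype.ext hss) (Subtype.ext hsr) (fun h => hns ?_) hcard
  obtain ⟨k, hk⟩ := h
  exact ⟨k, by simpa using congrArg Subtype.val hk⟩

end Dih

theorem noEight_of_dih (S : Sylow 2 G) {n : ℕ} {r s : G} (h : DihData (S : Subgroup G) n r s) : NoEight G := by
  haveI : Fact (Nat.Prime 2) := ⟨Nat.prime_two⟩
  have inS : ∀ a b c : G, a ∈ (S : Subgroup G) → b ∈ (S : Subgroup G) → c ∈ (S : Subgroup G) → a * a = 1 →
      b * b = 1 → c * c = 1 → a * b = b * a → a * c = c * a → b * c = c * b → a ≠ 1 → b ≠ 1 → a ≠ b →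
      c = 1 ∨ c = a ∨ c = b ∨ c = a * b := by
    intro a b c haS hbS hcS ha hb hc hab hac hbc ha1 hb1 hne
    obtain ⟨z, hzr, hz, -⟩ := h.exists_t S.2
    have huniq : ∀ x ∈ zpowers r, x * x = 1 → x = 1 ∨ x = z := fun x hx hx2 => by
      by_cases hx1 : x = 1
      · exact Or.inl hx1
      · exact Or.inr (CfsgLib.Invol.mem_zpowers_unique_involution hx hzr
          (CfsgLib.Invol.orderOf_eq_two_iff'.2 ⟨hx1, hx2⟩) hz)
    by_cases hA : a ∈ zpowers r <;> by_cases hB : b ∈ zpowers r
    · exact absurd (((huniq a hA ha).resolve_left ha1).trans ((huniq b hB hb).resolve_left hb1).symm) hne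
    · -- `a = z`
      have haz := (huniq a hA ha).resolve_left ha1
      by_cases hC : c ∈ zpowers r
      · rcases huniq c hC hc with e | e
        · exact Or.inl e
        · exact Or.inr (Or.inl (e.trans haz.symm))
      · rcases huniq (b * c) ((h.key hbS hcS).2 (iff_of_false hB hC))
            (by calc b * c * (b * c) = b * (c * b) * c := by group
                  _ = (b * b) * (c * c) := by rw [← hbc]; group
                  _ = 1 := by rw [hb, hc, one_mul]) with e | e
        · exact Or.inr (Or.inr (Or.inl ((inv_eq_of_mul_eq_one_right e).symm.trans (inv_eq_of_mul_eq_one_right hb))))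
        · refine Or.inr (Or.inr (Or.inr ?_))
          rw [hab, haz, ← e, ← mul_assoc, hb, one_mul]
    · have hbz := (huniq b hB hb).resolve_left hb1
      by_cases hC : c ∈ zpowers r
      · rcases huniq c hC hc with e | e
        · exact Or.inl e
        · exact Or.inr (Or.inr (Or.inl (e.trans hbz.symm)))
      · rcases huniq (a * c) ((h.key haS hcS).2 (iff_of_false hA hC))
            (by calc a * c * (a * c) = a * (c * a) * c := by group
                  _ = (a * a) * (c * c) := by rw [← hac]; group
                  _ = 1 := by rw [ha, hc, one_mul]) with e | e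
        · exact Or.inr (Or.inl ((inv_eq_of_mul_eq_one_right e).symm.trans (inv_eq_of_mul_eq_one_right ha)))
        · refine Or.inr (Or.inr (Or.inr ?_))
          rw [hbz, ← e, ← mul_assoc, ha, one_mul]
    · have habz : a * b = z := (huniq (a * b) ((h.key haS hbS).2 (iff_of_false hA hB))
        (by calc a * b * (a * b) = a * (b * a) * b := by group
              _ = (a * a) * (b * b) := by rw [← hab]; group
              _ = 1 := by rw [ha, hb, one_mul])).resolve_left fun e =>
        hne ((inv_eq_of_mul_eq_one_right ha).symm.trans (inv_eq_of_mul_eq_one_right e))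
      by_cases hC : c ∈ zpowers r
      · rcases huniq c hC hc with e | e
        · exact Or.inl e
        · exact Or.inr (Or.inr (Or.inr (e.trans habz.symm)))
      · rcases huniq (a * c) ((h.key haS hcS).2 (iff_of_false hA hC))
            (by calc a * c * (a * c) = a * (c * a) * c := by group
                  _ = (a * a) * (c * c) := by rw [← hac]; group
                  _ = 1 := by rw [ha, hc, one_mul]) with e | e
        · exact Or.inr (Or.inl ((inv_eq_of_mul_eq_one_right e).symm.trans (inv_eq_of_mul_eq_one_right ha)))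
        · exact Or.inr (Or.inr (Or.inl (mul_left_cancel (e.trans habz.symm))))
  intro a b c ha hb hc hab hac hbc ha1 hb1 hne
  have hp : ∀ x : G, x * x = 1 → IsPGroup 2 (zpowers x) := fun x hx y => ⟨1, Subtype.ext (by
    obtain ⟨k, hk⟩ := y.2
    simp only at hk
    push_cast
    rw [← hk, pow_two, ← (Commute.refl x).mul_zpow, hx, one_zpow])⟩
  have hnorm : ∀ (H : Subgroup G) (x : G), (∀ z ∈ H, x * z = z * x) → zpowers x ≤ normalizer (H : Set G) :=
    fun H x hx => Subgroup.zpowers_le.2 (mem_normalizer_iff.2 fun z => ⟨fun hz => by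
      rw [hx z hz, mul_inv_cancel_right]; exact hz, fun hz => by
      have e := hx _ hz
      have : z = x * z * x⁻¹ := by
        calc z = x⁻¹ * (x * z * x⁻¹ * x) := by group
          _ = x⁻¹ * (x * (x * z * x⁻¹)) := by rw [e]
          _ = x * z * x⁻¹ := by group
      exact this.symm ▸ hz⟩)
  have h1 : IsPGroup 2 (zpowers b ⊔ zpowers a : Subgroup G) :=
    (hp b hb).to_sup_of_normal_right' (hp a ha) (hnorm _ b fun z hz => by
      obtain ⟨k, rfl⟩ := hz; exact ((show Commute b a from hab.symm).zpow_right k).eq)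
  have h2 : IsPGroup 2 (zpowers c ⊔ (zpowers b ⊔ zpowers a) : Subgroup G) :=
    (hp c hc).to_sup_of_normal_right' h1 (hnorm _ c fun z hz => by
      have hle : zpowers b ⊔ zpowers a ≤ centralizer ({c} : Set G) := sup_le
        (Subgroup.zpowers_le.2 (mem_centralizer_singleton_iff.2 hbc))
        (Subgroup.zpowers_le.2 (mem_centralizer_singleton_iff.2 hac))
      exact (mem_centralizer_singleton_iff.1 (hle hz)).symm)
  obtain ⟨P, hP⟩ := h2.exists_le_sylow
  obtain ⟨g, hg⟩ := CfsgLib.Invol.sylow_exists_conj P S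
  have hmem : ∀ {x : G}, x ∈ (P : Subgroup G) → g * x * g⁻¹ ∈ (S : Subgroup G) := fun {x} hx =>
    (hg _).2 (by simpa [mul_assoc] using hx)
  have := inS _ _ _ (hmem (hP (mem_sup_right (mem_sup_right (mem_zpowers a)))))
    (hmem (hP (mem_sup_right (mem_sup_left (mem_zpowers b)))))
    (hmem (hP (mem_sup_left (mem_zpowers c)))) ?_ ?_ ?_ ?_ ?_ ?_ ?_ ?_ ?_
  · rcases this with e | e | e | e
    · exact Or.inl (conj_eq_one_iff.1 e)
    · exact Or.inr (Or.inl (mul_left_cancel (mul_right_cancel e)))
    · exact Or.inr (Or.inr (Or.inl (mul_left_cancel (mul_right_cancel e))))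
    · refine Or.inr (Or.inr (Or.inr (mul_left_cancel (mul_right_cancel (e.trans ?_)))))
      group
  · rw [conj_mul, ha]; group
  · rw [conj_mul, hb]; group
  · rw [conj_mul, hc]; group
  · rw [conj_mul, conj_mul, hab]
  · rw [conj_mul, conj_mul, hac]
  · rw [conj_mul, conj_mul, hbc]
  · exact fun e => ha1 (conj_eq_one_iff.1 e)
  · exact fun e => hb1 (conj_eq_one_iff.1 e)
  · exact fun e => hne (mul_left_cancel (mul_right_cancel e))

/-- `PSL₂` over a field of characteristic two with no elementary abelian subgroup of order eight. -/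
theorem card_field_of_noEight {F : Type*} [Field F] [Fintype F] [CharP F 2] (h4 : 4 ≤ Fintype.card F)
    (h : NoEight (Matrix.ProjectiveSpecialLinearGroup (Fin 2) F)) : Fintype.card F = 4 := by
  classical
  let f : Multiplicative F →* Matrix.ProjectiveSpecialLinearGroup (Fin 2) F :=
    (QuotientGroup.mk' _).comp CfsgLib.LocalEven.RankOne.upperHom
  have hf : Function.Injective f := by
    rw [injective_iff_map_eq_one]
    intro x hx
    have hx' : CfsgLib.LocalEven.RankOne.upperHom x ∈ center (Matrix.SpecialLinearGroup (Fin 2) F) :=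
      (QuotientGroup.eq_one_iff _).1 hx
    obtain ⟨r, -, hr⟩ := Matrix.SpecialLinearGroup.mem_center_iff.1 hx'
    have e := congrFun (congrFun hr 0) 1
    simp [CfsgLib.LocalEven.RankOne.upperHom, CfsgLib.LocalEven.FaithfulBound.upper01, Matrix.scalar_apply] at e
    exact Multiplicative.toAdd.injective (by simpa using e.symm)
  have hF := h.comap f hf
  by_contra hne
  obtain ⟨b, -, hb⟩ := Finset.exists_mem_notMem_of_card_lt_card
    (show ({0, 1} : Finset F).card < (Finset.univ : Finset F).card by
      rw [Finset.card_univ]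
      exact lt_of_le_of_lt Finset.card_le_two (by omega))
  obtain ⟨c, -, hc⟩ := Finset.exists_mem_notMem_of_card_lt_card
    (show ({0, 1, b, 1 + b} : Finset F).card < (Finset.univ : Finset F).card by
      rw [Finset.card_univ]
      exact lt_of_le_of_lt Finset.card_le_four (by omega))
  simp only [Finset.mem_insert, Finset.mem_singleton, not_or] at hb hc
  have hadd : ∀ x : F, Multiplicative.ofAdd x * Multiplicative.ofAdd x = 1 := fun x => by
    rw [← ofAdd_add, CharTwo.add_self_eq_zero, ofAdd_zero]
  rcases hF (.ofAdd 1) (.ofAdd b) (.ofAdd c) (hadd 1) (hadd b) (hadd c) (mul_comm _ _) (mul_comm _ _)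
      (mul_comm _ _) (by simp) (by simpa using hb.1) (fun e => hb.2 (Multiplicative.ofAdd.injective e).symm)
    with e | e | e | e
  · exact hc.1 (by simpa using e)
  · exact hc.2.1 (Multiplicative.ofAdd.injective e)
  · exact hc.2.2.1 (Multiplicative.ofAdd.injective e)
  · exact hc.2.2.2 (Multiplicative.ofAdd.injective (by simpa [ofAdd_add] using e))

end CfsgLib.Recognition.CycNorm
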