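import Cfsg.Agent.Lib.Recognition.CycNorm.Basic
import Cfsg.Agent.S4211
import Cfsg.Agent.S0205

/-!
# Involution centralisers are 2-nilpotent with abelian odd part
-/

set_option autoImplicit false
set_option linter.dupNamespace false
set_option linter.style.haveILetI false
set_option linter.unusedSectionVars false

namespace CfsgLib.Recognition.CycNorm

open Subgroup

variable {G : Type*} [Group G] [Finite G]

/-- Some power of two makes the order odd. -/
theorem exists_odd_pow (x : G) : ∃ a : ℕ, Odd (orderOf (x ^ 2 ^ a)) := by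
  obtain ⟨a, m, hm, e⟩ := Nat.exists_eq_two_pow_mul_odd (orderOf_pos x).ne'
  refine ⟨a, ?_⟩
  rw [orderOf_pow_of_dvd (by positivity) (e ▸ dvd_mul_right _ _), e, Nat.mul_div_cancel_left _ (by positivity)]
  exact hm

/-- An element of odd order lies in every subgroup containing one of its 2-power powers. -/
theorem mem_of_pow_two_mem {H : Subgroup G} {x : G} (hx : Odd (orderOf x)) {k : ℕ} (h : x ^ 2 ^ k ∈ H) :
    x ∈ H := by
  obtain ⟨m, hm⟩ := exists_pow_eq_self_of_coprime (x := x) (n := 2 ^ k)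
    (Nat.Coprime.pow_left k (Nat.coprime_two_left.2 hx))
  exact hm ▸ pow_mem h m

theorem oddPart_comm (hG : CycNorm G) {t a b : G} (ht : orderOf t = 2) (ha : a ∈ oddPart t)
    (hb : b ∈ oddPart t) : a * b = b * a := by
  by_contra hne
  have hna : ¬ IsMulCommutative ↥(oddPart t) := fun h =>
    hne (congrArg Subtype.val (h.is_comm.comm ⟨a, ha⟩ ⟨b, hb⟩))
  have hn : ∀ H : Subgroup ↥(oddPart t), H.Normal := fun H => ⟨fun h hh g => by
    obtain ⟨k, hk⟩ := conj_mem_zpowers hG ht h.2 (oddPart_le t g.2)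
    have : g * h * g⁻¹ = h ^ k := Subtype.ext (by simpa using hk.symm)
    exact this ▸ H.zpow_mem hh k⟩
  obtain ⟨Q, -, -, ⟨e⟩, -⟩ := Cfsg.Agent.S4211.result hna hn
  have h8 : 8 ∣ Nat.card (oddPart t) := by
    have h := card_subgroup_dvd_card Q
    rwa [Nat.card_congr e.toEquiv, Nat.card_eq_fintype_card, QuaternionGroup.card] at h
  have hodd : Odd (Nat.card (oddPart t)) := by
    unfold oddPart
    rw [card_map_of_injective (subtype_injective _)]
    exact CfsgLib.Cores.odd_card_oddCore
  exact (Nat.not_even_iff_odd.2 hodd) (even_iff_two_dvd.2 ((by norm_num : 2 ∣ 8).trans h8))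

/-- The quotient of an involution centraliser by its odd part is a 2-group. -/
theorem exists_pow_mem_oddPart (hG : CycNorm G) {t : G} (ht : orderOf t = 2) {x : G}
    (hx : x ∈ centralizer ({t} : Set G)) : ∃ a : ℕ, x ^ 2 ^ a ∈ oddPart t := by
  obtain ⟨a, ha⟩ := exists_odd_pow x
  exact ⟨a, (mem_oddPart_iff hG ht).2 ⟨pow_mem hx _, ha⟩⟩

theorem isPGroup_quotient_oddCore (hG : CycNorm G) {t : G} (ht : orderOf t = 2) :
    IsPGroup 2 (↥(centralizer ({t} : Set G)) ⧸ Cfsg.oddCore ↥(centralizer ({t} : Set G))) := by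
  intro q
  obtain ⟨x, rfl⟩ := QuotientGroup.mk'_surjective _ q
  obtain ⟨a, b, hb, hbe⟩ := exists_pow_mem_oddPart hG ht x.2
  refine ⟨a, ?_⟩
  rw [← map_pow, QuotientGroup.mk'_apply, QuotientGroup.eq_one_iff]
  have : b = x ^ 2 ^ a := Subtype.ext (by simpa using hbe)
  exact this ▸ hb

theorem isSolvable_centralizer (hG : CycNorm G) {t : G} (ht : orderOf t = 2) :
    Group.IsSolvable ↥(centralizer ({t} : Set G)) := by
  haveI : Fact (Nat.Prime 2) := ⟨Nat.prime_two⟩
  set C := centralizer ({t} : Set G)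
  haveI := (isPGroup_quotient_oddCore hG ht).isNilpotent
  haveI : Group.IsSolvable ↥(Cfsg.oddCore ↥C) := Cfsg.Agent.S0205.result CfsgLib.Cores.odd_card_oddCore
  exact Group.isSolvable_of_ker_le_range (Cfsg.oddCore ↥C).subtype (QuotientGroup.mk' (Cfsg.oddCore ↥C))
    (by rw [QuotientGroup.ker_mk', range_subtype])

end CfsgLib.Recognition.CycNorm
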