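import Cfsg.Agent.Lib.Recognition.CycNorm.Fpf
import Cfsg.Agent.Lib.Recognition.CycNorm.Parts
import Cfsg.Agent.Lib.Invol.BaerSuzuki
import Cfsg.Agent.S0071
import Cfsg.Agent.S0205

/-!
# Maximal 2-subgroups with an odd automorphism
-/

set_option autoImplicit false
set_option linter.dupNamespace false
set_option linter.style.haveILetI false
set_option linter.unusedSectionVars false

namespace CfsgLib.Recognition.CycNorm

open Subgroup

variable {G : Type*} [Group G] [Finite G]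

/-- No solvable normal subgroup other than the trivial one. -/
def NoSolvNormal (G : Type*) [Group G] : Prop :=
  ∀ N : Subgroup G, N.Normal → Group.IsSolvable ↥N → N = ⊥

/-- A 2-subgroup with a nontrivial automorphism of odd order induced by the group. -/
def Moved (D : Subgroup G) : Prop :=
  IsPGroup 2 D ∧ ∃ y ∈ normalizer (D : Set G), Odd (orderOf y) ∧ y ∉ centralizer (D : Set G)

theorem exists_moved [Nontrivial G] (hS : NoSolvNormal G) : ∃ D : Subgroup G, Moved D := by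
  haveI : Fact (Nat.Prime 2) := ⟨Nat.prime_two⟩
  obtain ⟨P⟩ : Nonempty (Sylow 2 G) := inferInstance
  by_contra hno
  obtain ⟨N, hN, hNP⟩ := (Cfsg.Agent.S0071.result P).2 fun Q hQ g hg hco =>
    by_contra fun hgC => hno ⟨Q, P.2.to_le hQ, g, hg, Nat.coprime_two_right.1 hco, hgC⟩
  have hodd : Odd (Nat.card N) := by
    rw [← hNP.index_eq_card, ← Nat.not_even_iff_odd, even_iff_two_dvd]
    exact P.not_dvd_index
  have hN1 := hS N hN (Cfsg.Agent.S0205.result hodd)
  subst hN1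
  have hP : (P : Subgroup G) = ⊤ := isComplement'_bot_left.1 hNP
  haveI : Group.IsNilpotent ↥(⊤ : Subgroup G) := (hP ▸ P.2 : IsPGroup 2 (⊤ : Subgroup G)).isNilpotent
  exact bot_ne_top (α := Subgroup G) (hS ⊤ inferInstance inferInstance).symm

/-- The maximality used below. -/
def MaxMoved (D : Subgroup G) : Prop :=
  Moved D ∧ ∀ T : Subgroup G, D ≤ T → Moved T → T = D

theorem exists_maxMoved [Nontrivial G] (hS : NoSolvNormal G) : ∃ D : Subgroup G, MaxMoved D := by
  obtain ⟨D₀, h₀⟩ := exists_moved hS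
  obtain ⟨D, -, hD⟩ := Finite.exists_le_maximal (p := fun K : Subgroup G => Moved K) h₀
  exact ⟨D, hD.1, fun T hle hT => le_antisymm (hD.2 hT hle) hle⟩

theorem normalizer_le_normalizer_centralizer (D : Subgroup G) :
    normalizer (D : Set G) ≤ normalizer (centralizer (D : Set G) : Set G) := by
  have key : ∀ g ∈ normalizer (D : Set G), ∀ c ∈ centralizer (D : Set G),
      g * c * g⁻¹ ∈ centralizer (D : Set G) := by
    intro g hg c hc
    refine mem_centralizer_iff.2 fun d hd => ?_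
    have h := mem_centralizer_iff.1 hc _ ((mem_normalizer_iff.1 (inv_mem hg) d).1 hd)
    calc d * (g * c * g⁻¹) = g * ((g⁻¹ * d * g⁻¹⁻¹) * c) * g⁻¹ := by group
      _ = g * (c * (g⁻¹ * d * g⁻¹⁻¹)) * g⁻¹ := by rw [h]
      _ = g * c * g⁻¹ * d := by group
  intro g hg
  refine mem_normalizer_iff.2 fun c => ⟨key g hg c, fun h => ?_⟩
  simpa [mul_assoc] using key g⁻¹ (inv_mem hg) _ h

theorem centralizer_le_normalizer' (D : Subgroup G) : centralizer (D : Set G) ≤ normalizer (D : Set G) :=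
  Subgroup.centralizer_le_normalizer _

/-- A subgroup acting as a 2-group on `D` has no 2-elements outside `D`. -/
theorem two_core {D : Subgroup G} (hmax : MaxMoved D) {Q : Subgroup G} (hCQ : centralizer (D : Set G) ≤ Q)
    (hDQ : D ≤ Q) (hQN : Q ≤ normalizer (D : Set G))
    (hQ2 : ∀ q ∈ Q, ∃ k : ℕ, q ^ 2 ^ k ∈ centralizer (D : Set G)) {y : G}
    (hyN : y ∈ normalizer (D : Set G)) (hyQ : y ∈ normalizer (Q : Set G)) (hy : Odd (orderOf y))
    (hyC : y ∉ centralizer (D : Set G)) {x : G} (hx : x ∈ Q) {a : ℕ} (hxa : x ^ 2 ^ a = 1) : x ∈ D := by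
  haveI : Fact (Nat.Prime 2) := ⟨Nat.prime_two⟩
  obtain ⟨T, hT⟩ := (hmax.1.1.comap_subtype (K := Q)).exists_le_sylow
  set T₀ : Subgroup G := (T : Subgroup ↥Q).map Q.subtype with hT₀
  have hDT : D ≤ T₀ := fun d hd => ⟨⟨d, hDQ hd⟩, hT (mem_subgroupOf.2 hd), rfl⟩
  let φ : ↥Q ≃* ↥Q :=
    { toFun := fun q => ⟨y * q * y⁻¹, (mem_normalizer_iff.1 hyQ _).1 q.2⟩
      invFun := fun q => ⟨y⁻¹ * q * y⁻¹⁻¹, (mem_normalizer_iff.1 (inv_mem hyQ) _).1 q.2⟩
      left_inv := fun q => Subtype.ext (by simp [mul_assoc])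
      right_inv := fun q => Subtype.ext (by simp [mul_assoc])
      map_mul' := fun p q => Subtype.ext (by simp [mul_assoc]) }
  let Tφ : Sylow 2 ↥Q := T.mapSurjective (f := φ.toMonoidHom) φ.surjective
  obtain ⟨g, hg⟩ := CfsgLib.Invol.sylow_exists_conj T Tφ
  set y' : G := (g : G)⁻¹ * y with hy'
  have hy'N : y' ∈ normalizer (D : Set G) := mul_mem (inv_mem (hQN g.2)) hyN
  have hy'T : ∀ z ∈ T₀, y' * z * y'⁻¹ ∈ T₀ := by
    rintro _ ⟨z, hz, rfl⟩
    have h1 : φ z ∈ (Tφ : Subgroup ↥Q) := ⟨z, hz, rfl⟩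
    exact ⟨g⁻¹ * φ z * g, (hg _).1 h1, by simp [φ, hy', mul_assoc]⟩
  have hT₀p : IsPGroup 2 T₀ := T.2.map _
  have hy'T₀ : y' ∈ normalizer (T₀ : Set G) := by
    have hmap : T₀.map (MulAut.conj y').toMonoidHom = T₀ := by
      refine eq_of_le_of_card_ge ?_ (card_map_of_injective (MulEquiv.injective _)).ge
      rintro _ ⟨z, hz, rfl⟩
      exact hy'T z hz
    exact CfsgLib.Invol.mem_normalizer_iff_map_conj.2 hmap
  have hpow : ∀ m : ℕ, y' ^ m * (y ^ m)⁻¹ ∈ Q := by
    intro m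
    induction m with
    | zero => simp
    | succ m ih =>
      have h1 : y * (y' ^ m * (y ^ m)⁻¹) * y⁻¹ ∈ Q := (mem_normalizer_iff.1 hyQ _).1 ih
      have h2 := Q.mul_mem (Q.inv_mem g.2) h1
      convert h2 using 1
      rw [pow_succ' y', pow_succ' y, hy']
      group
  obtain ⟨b, hb⟩ := exists_odd_pow y'
  have hy''C : y' ^ 2 ^ b ∉ centralizer (D : Set G) := by
    intro h
    have h1 : y ^ 2 ^ b ∈ Q := by
      have := Q.mul_mem (Q.inv_mem (hpow (2 ^ b))) (hCQ h)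
      simpa [mul_assoc] using this
    obtain ⟨k, hk⟩ := hQ2 _ h1
    rw [← pow_mul, ← pow_add] at hk
    exact hyC (mem_of_pow_two_mem hy hk)
  have hTD : T₀ = D := hmax.2 T₀ hDT ⟨hT₀p, y' ^ 2 ^ b, pow_mem hy'T₀ _, hb,
    fun h => hy''C (centralizer_le (fun d hd => hDT hd) h)⟩
  -- the Sylow subgroup is normal
  have hn : (T : Subgroup ↥Q).Normal := ⟨fun z hz q => by
    have h1 : (z : G) ∈ D := hTD ▸ mem_map_of_mem Q.subtype hz
    have h2 : ((q * z * q⁻¹ : ↥Q) : G) ∈ T₀ := hTD.symm ▸ (mem_normalizer_iff.1 (hQN q.2) _).1 h1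
    obtain ⟨w, hw, he⟩ := h2
    exact (Subtype.ext he : w = q * z * q⁻¹) ▸ hw⟩
  haveI := hn
  have hp : IsPGroup 2 (zpowers (⟨x, hx⟩ : ↥Q)) := by
    obtain ⟨i, -, hi⟩ := (Nat.dvd_prime_pow Nat.prime_two).1 (orderOf_dvd_of_pow_eq_one hxa)
    exact IsPGroup.of_card (n := i) (by rw [Nat.card_zpowers, orderOf_mk, hi])
  have hle : zpowers (⟨x, hx⟩ : ↥Q) ≤ (T : Subgroup ↥Q) := by
    exact le_sup_left.trans (T.is_maximal' (hp.to_sup_of_normal_right T.2) le_sup_right).le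
  exact hTD ▸ ⟨⟨x, hx⟩, hle (mem_zpowers _), rfl⟩

/-- The standard choice: the 2-elements centralising `D` lie in `D`. -/
theorem two_cent (hG : CycNorm G) {D : Subgroup G} (hmax : MaxMoved D) {x : G}
    (hx : x ∈ centralizer (D : Set G)) {a : ℕ} (hxa : x ^ 2 ^ a = 1) : x ∈ D := by
  obtain ⟨hD, y, hyN, hy, hyC⟩ := hmax.1
  refine two_core hmax le_rfl (fun d hd => mem_centralizer_iff.2 fun e he => comm_of_fpf hG hD hyN hy hyC e he d hd)
    (centralizer_le_normalizer' D) (fun q hq => ⟨0, by simpa using hq⟩) hyN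
    (normalizer_le_normalizer_centralizer D hyN) hy hyC hx hxa

end CfsgLib.Recognition.CycNorm
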