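import Cfsg.Agent.Lib.Recognition.CycNorm.Parts
import Cfsg.Agent.Lib.Recognition.CycNorm.Local

/-!
# The socle is simple
-/

set_option autoImplicit false
set_option linter.dupNamespace false
set_option linter.style.haveILetI false
set_option linter.unusedSectionVars false

namespace CfsgLib.Recognition.CycNorm

open Subgroup

variable {G : Type*} [Group G] [Finite G]

theorem exists_invol_mem {H : Subgroup G} (h : ¬ Group.IsSolvable ↥H) : ∃ w ∈ H, orderOf w = 2 := by
  haveI : Fact (Nat.Prime 2) := ⟨Nat.prime_two⟩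
  have hev : 2 ∣ Nat.card H := by
    rw [← even_iff_two_dvd, ← Nat.not_odd_iff_even]
    exact fun ho => h (Cfsg.Agent.S0205.result ho)
  obtain ⟨w, hw⟩ := exists_prime_orderOf_dvd_card' (G := H) 2 hev
  exact ⟨w, w.2, by rwa [orderOf_coe]⟩

theorem isSolvable_of_le {H K : Subgroup G} (hle : H ≤ K) (hK : Group.IsSolvable ↥K) : Group.IsSolvable ↥H :=
  haveI := hK
  Group.isSolvable_of_isSolvable_injective (f := inclusion hle) (inclusion_injective hle)

/-- A subgroup centralised by an involution is solvable. -/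
theorem isSolvable_of_centralized (hG : CycNorm G) {H : Subgroup G} {w : G} (hw : orderOf w = 2)
    (hle : ∀ x ∈ H, x * w = w * x) : Group.IsSolvable ↥H :=
  isSolvable_of_le (fun x hx => mem_centralizer_singleton_iff.2 (hle x hx)) (isSolvable_centralizer hG hw)

theorem exists_simple_normal [Nontrivial G] (hG : CycNorm G) (hS : NoSolvNormal G) :
    ∃ L : Subgroup G, L.Normal ∧ IsSimpleGroup ↥L ∧ ¬ IsMulCommutative ↥L ∧
      centralizer (L : Set G) = ⊥ := by
  obtain ⟨L, hL⟩ := exists_minimal_of_wellFoundedLT (fun K : Subgroup G => K.Normal ∧ K ≠ ⊥)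
    ⟨⊤, inferInstance, top_ne_bot⟩
  obtain ⟨hLn, hL1⟩ := hL.1
  haveI := hLn
  have hns : ¬ Group.IsSolvable ↥L := fun h => hL1 (hS L hLn h)
  have hnc : ¬ IsMulCommutative ↥L := fun h => hns (Group.isSolvable_of_comm fun a b => h.is_comm.comm a b)
  -- solvable normal subgroups of `L`
  have hLrad : ∀ M : Subgroup ↥L, M.Normal → Group.IsSolvable ↥M → M = ⊥ := by
    intro M hM hMs
    obtain ⟨R, -, hR⟩ := Finite.exists_le_maximal (p := fun K : Subgroup ↥L => K.Normal ∧ Group.IsSolvable ↥K)
      (a := ⊥) ⟨inferInstance, Group.isSolvable_of_comm fun a b => Subsingleton.elim _ _⟩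
    obtain ⟨hRn, hRs⟩ := hR.1
    haveI := hRn
    haveI := hRs
    have hmax : ∀ K : Subgroup ↥L, K.Normal → Group.IsSolvable ↥K → K ≤ R := by
      intro K hK hKs
      haveI := hK
      haveI := hKs
      have hsup : Group.IsSolvable ↥(R ⊔ K) := by
        set J : Subgroup ↥(R ⊔ K) := R.subgroupOf (R ⊔ K)
        haveI : Group.IsSolvable ↥J := Group.isSolvable_of_isSolvable_injective
          (f := (subgroupOfEquivOfLe (le_sup_left : R ≤ R ⊔ K)).toMonoidHom) (MulEquiv.injective _)
        have hsurj : Function.Surjective ((QuotientGroup.mk' J).comp (inclusion (le_sup_right : K ≤ R ⊔ K))) := by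
          intro q
          obtain ⟨⟨x, hx⟩, rfl⟩ := QuotientGroup.mk'_surjective J q
          rw [← SetLike.mem_coe, normal_mul] at hx
          obtain ⟨r, hr, k, hk, hrk⟩ := hx
          refine ⟨⟨k, hk⟩, ?_⟩
          rw [MonoidHom.comp_apply]
          refine (QuotientGroup.eq.2 ?_)
          rw [mem_subgroupOf]
          push_cast
          subst hrk
          simpa [mul_assoc] using hRn.conj_mem r hr k⁻¹
        haveI := Group.isSolvable_of_surjective hsurj
        exact Group.isSolvable_of_ker_le_range J.subtype (QuotientGroup.mk' J)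
          (by rw [QuotientGroup.ker_mk', range_subtype])
      exact le_sup_right.trans (hR.2 ⟨inferInstance, hsup⟩ le_sup_left)
    have hmapn : (R.map L.subtype).Normal := ⟨by
      rintro _ ⟨x, hx, rfl⟩ g
      have hle : R.map (MulAut.conjNormal (H := L) g).toMonoidHom ≤ R := by
        refine hmax _ (hRn.map _ (MulEquiv.surjective _)) ?_
        exact Group.isSolvable_of_surjective
          (f := ((MulAut.conjNormal (H := L) g).subgroupMap R).toMonoidHom) (MulEquiv.surjective _)
      exact ⟨_, hle (mem_map_of_mem _ hx), by simp [MulAut.conjNormal_apply]⟩⟩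
    have hRbot : R = ⊥ := by
      have hs : Group.IsSolvable ↥(R.map L.subtype) :=
        Group.isSolvable_of_surjective (f := (R.equivMapOfInjective L.subtype L.subtype_injective).toMonoidHom)
          (MulEquiv.surjective _)
      exact (map_eq_bot_iff_of_injective R L.subtype_injective).1 (hS _ hmapn hs)
    exact le_bot_iff.1 (hRbot ▸ hmax M hM hMs)
  -- two nontrivial normal subgroups meet
  have hmeet : ∀ M N : Subgroup ↥L, M.Normal → N.Normal → M ⊓ N = ⊥ → M = ⊥ ∨ N = ⊥ := by
    intro M N hM hN hMN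
    by_contra hne
    rw [not_or] at hne
    have hMs : ¬ Group.IsSolvable ↥(M.map L.subtype) := fun h => hne.1 (hLrad M hM
      (haveI := h; Group.isSolvable_of_isSolvable_injective
        (f := (M.equivMapOfInjective L.subtype L.subtype_injective).toMonoidHom) (MulEquiv.injective _)))
    obtain ⟨_, ⟨w, hw, rfl⟩, hwo⟩ := exists_invol_mem hMs
    have hc : ∀ x ∈ N.map L.subtype, x * (w : G) = (w : G) * x := by
      rintro _ ⟨x, hx, rfl⟩
      exact (congrArg Subtype.val (commute_of_normal_of_disjoint M N hM hN (disjoint_iff.2 hMN) w x hw hx).eq).symm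
    refine hne.2 (hLrad N hN ?_)
    haveI := isSolvable_of_centralized hG hwo hc
    exact Group.isSolvable_of_isSolvable_injective
      (f := (N.equivMapOfInjective L.subtype L.subtype_injective).toMonoidHom) (MulEquiv.injective _)
  haveI : Nontrivial ↥L := (nontrivial_iff_ne_bot L).2 hL1
  obtain ⟨M, hM⟩ := exists_minimal_of_wellFoundedLT (fun K : Subgroup ↥L => K.Normal ∧ K ≠ ⊥)
    ⟨⊤, inferInstance, top_ne_bot⟩
  obtain ⟨hMn, hM1⟩ := hM.1
  have hMle : ∀ N : Subgroup ↥L, N.Normal → N ≠ ⊥ → M ≤ N := by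
    intro N hN hN1
    rcases eq_or_ne (M ⊓ N) ⊥ with h | h
    · exact ((hmeet M N hMn hN h).resolve_left hM1 ▸ hN1 <| rfl).elim
    · exact (hM.2 ⟨normal_inf_normal M N, h⟩ inf_le_left).trans inf_le_right
  have hMtop : M = ⊤ := by
    have hn : (M.map L.subtype).Normal := ⟨by
      rintro _ ⟨x, hx, rfl⟩ g
      have hle : M ≤ M.map (MulAut.conjNormal (H := L) g).toMonoidHom :=
        hMle _ (hMn.map _ (MulEquiv.surjective _))
          (fun h => hM1 ((map_eq_bot_iff_of_injective M (MulEquiv.injective _)).1 h))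
      have heq := eq_of_le_of_card_ge hle (card_map_of_injective (MulEquiv.injective _)).le
      exact ⟨_, heq.symm ▸ mem_map_of_mem _ hx, by simp [MulAut.conjNormal_apply]⟩⟩
    have := le_antisymm (hL.2 ⟨hn, fun h => hM1 ((map_eq_bot_iff_of_injective M L.subtype_injective).1 h)⟩
      (map_subtype_le M)) (map_subtype_le M)
    exact map_injective L.subtype_injective (by rw [← this, ← MonoidHom.range_eq_map, range_subtype])
  refine ⟨L, hLn, ⟨fun N hN => or_iff_not_imp_left.2 fun hN1 => top_le_iff.1 (hMtop ▸ hMle N hN hN1)⟩, hnc, ?_⟩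
  by_contra hC
  have hCn : (centralizer (L : Set G)).Normal := inferInstance
  obtain ⟨w, hw, hwo⟩ := exists_invol_mem (fun h => hC (hS _ hCn h))
  exact hns (isSolvable_of_centralized hG hwo fun x hx => mem_centralizer_iff.1 hw x hx)

end CfsgLib.Recognition.CycNorm
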