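import Cfsg.Agent.Lib.Recognition.CycNorm.Sylow
import Cfsg.Agent.Lib.PGroup.CAI.Local

/-!
# An abelian Sylow 2-subgroup with an odd automorphism
-/

set_option autoImplicit false
set_option linter.dupNamespace false
set_option linter.style.haveILetI false
set_option linter.unusedSectionVars false

namespace CfsgLib.Recognition.CycNorm

open Subgroup

variable {G : Type*} [Group G] [Finite G]

theorem orderOf_eq_prime_of_pow {p : ℕ} (hp : p.Prime) {a : G} (h : a ^ p = 1) (h1 : a ≠ 1) : orderOf a = p :=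
  ((Nat.dvd_prime hp).1 (orderOf_dvd_of_pow_eq_one h)).resolve_left fun e => h1 (orderOf_eq_one_iff.1 e)

theorem mem_centralizer_conj {y t x : G} :
    x ∈ centralizer ({y * t * y⁻¹} : Set G) ↔ y⁻¹ * x * y ∈ centralizer ({t} : Set G) := by
  rw [mem_centralizer_singleton_iff, mem_centralizer_singleton_iff]
  constructor
  · intro h
    calc y⁻¹ * x * y * t = y⁻¹ * (x * (y * t * y⁻¹)) * y := by group
      _ = y⁻¹ * ((y * t * y⁻¹) * x) * y := by rw [h]
      _ = t * (y⁻¹ * x * y) := by group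
  · intro h
    calc x * (y * t * y⁻¹) = y * (y⁻¹ * x * y * t) * y⁻¹ := by group
      _ = y * (t * (y⁻¹ * x * y)) * y⁻¹ := by rw [h]
      _ = y * t * y⁻¹ * x := by group

theorem cent_conj_congr {y t w : G} (h : centralizer ({w} : Set G) = centralizer ({t} : Set G)) :
    centralizer ({y * w * y⁻¹} : Set G) = centralizer ({y * t * y⁻¹} : Set G) := by
  ext x
  rw [mem_centralizer_conj, mem_centralizer_conj, h]

/-- An involution inverts or centralises an element of prime order in the odd part. -/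
theorem invol_dichotomy (hG : CycNorm G) {t a w : G} (ht : orderOf t = 2) (ha : a ∈ oddPart t)
    (hap : (orderOf a).Prime) (hw : w ∈ centralizer ({t} : Set G)) (hw2 : w * w = 1) :
    w * a = a * w ∨ w * a * w⁻¹ = a⁻¹ := by
  obtain ⟨i, hi⟩ := conj_mem_zpowers hG ht ha hw
  simp only at hi
  have h2 : a ^ (i * i) = a ^ (1 : ℤ) := by
    rw [zpow_mul, hi, conj_zpow, hi]
    calc w * (w * a * w⁻¹) * w⁻¹ = (w * w) * a * (w * w)⁻¹ := by group
      _ = a ^ (1 : ℤ) := by rw [hw2]; simp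
  rw [← orderOf_dvd_sub_iff_zpow_eq_zpow] at h2
  have hp : Prime ((orderOf a : ℕ) : ℤ) := Nat.prime_iff_prime_int.1 hap
  have h3 : ((orderOf a : ℕ) : ℤ) ∣ (i - 1) * (i + 1) := by
    rw [show (i - 1) * (i + 1) = i * i - 1 by ring]
    exact h2
  rcases hp.dvd_or_dvd h3 with h | h
  · refine Or.inl (mul_inv_eq_iff_eq_mul.1 ?_)
    rw [← hi]
    nth_rewrite 2 [← zpow_one a]
    rw [← orderOf_dvd_sub_iff_zpow_eq_zpow]
    exact h
  · refine Or.inr ?_
    rw [← hi, ← zpow_neg_one, ← orderOf_dvd_sub_iff_zpow_eq_zpow]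
    rw [sub_neg_eq_add]
    exact h

/-- An involution of the same centraliser class is the same as one centralising `a`. -/
theorem cent_eq_iff (hG : CycNorm G) {t a w : G} (ht : orderOf t = 2) (hw : orderOf w = 2)
    (ha : a ∈ oddPart t) (ha1 : a ≠ 1) :
    centralizer ({w} : Set G) = centralizer ({t} : Set G) ↔ w * a = a * w := by
  have hat := mem_centralizer_singleton_iff.1 (oddPart_le t ha)
  constructor
  · intro h
    exact (mem_centralizer_singleton_iff.1 (h ▸ oddPart_le t ha : a ∈ centralizer ({w} : Set G))).symm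
  · intro h
    rw [cent_eq_norm_odd hG hw h.symm (odd_of_mem_oddPart ha) ha1,
      cent_eq_norm_odd hG ht hat (odd_of_mem_oddPart ha) ha1]

/-- All involutions of `S` have the same centraliser, or `S` is a four-group. -/
theorem same_or_four (hG : CycNorm G) (S : Sylow 2 G) (hS : Moved (S : Subgroup G)) :
    (∀ u ∈ (S : Subgroup G), ∀ w ∈ (S : Subgroup G), orderOf u = 2 → orderOf w = 2 →
      centralizer ({u} : Set G) = centralizer ({w} : Set G)) ∨
    ∃ r s : G, DihData (S : Subgroup G) 2 r s := by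
  haveI : Fact (Nat.Prime 2) := ⟨Nat.prime_two⟩
  obtain ⟨hS2, y, hyN, hy, hyC⟩ := hS
  have hab := comm_of_fpf hG hS2 hyN hy hyC
  have hfpf := fun {d : G} (hd : d ∈ (S : Subgroup G)) (h : y * d = d * y) => fpf hG hS2 hyN hy hyC hd h
  have hinC : ∀ u ∈ (S : Subgroup G), ∀ w ∈ (S : Subgroup G), u ∈ centralizer ({w} : Set G) :=
    fun u hu w hw => mem_centralizer_singleton_iff.2 (hab u hu w hw)
  by_cases hodd : ∃ t ∈ (S : Subgroup G), orderOf t = 2 ∧ oddPart t ≠ ⊥
  swap
  · push Not at hodd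
    have key : ∀ w ∈ (S : Subgroup G), orderOf w = 2 → centralizer ({w} : Set G) = (S : Subgroup G) := by
      intro w hw hw2
      refine (S.is_maximal' (fun x => ?_) fun x hx => hinC x hx w hw)
      obtain ⟨k, hk⟩ := exists_pow_mem_oddPart hG hw2 x.2
      rw [hodd w hw hw2, mem_bot] at hk
      exact ⟨k, Subtype.ext (by simpa using hk)⟩
    exact Or.inl fun u hu w hw hu2 hw2 => (key u hu hu2).trans (key w hw hw2).symm
  obtain ⟨t, htS, ht, hA⟩ := hodd
  obtain ⟨a₀, ha₀, ha₀1⟩ := (bot_or_exists_ne_one (oddPart t)).resolve_left hA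
  obtain ⟨a, ha, hap⟩ : ∃ a ∈ oddPart t, (orderOf a).Prime := by
    have hp := Nat.minFac_prime (fun e => ha₀1 (orderOf_eq_one_iff.1 e))
    refine ⟨a₀ ^ (orderOf a₀ / (orderOf a₀).minFac), pow_mem ha₀ _, ?_⟩
    rwa [orderOf_pow_orderOf_div (orderOf_pos a₀).ne' (Nat.minFac_dvd _)]
  have ha1 : a ≠ 1 := fun e => by rw [e, orderOf_one] at hap; exact Nat.not_prime_one hap
  by_cases hall : ∀ u ∈ (S : Subgroup G), orderOf u = 2 → u * a = a * u
  · exact Or.inl fun u hu w hw hu2 hw2 => ((cent_eq_iff hG ht hu2 ha ha1).2 (hall u hu hu2)).trans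
      ((cent_eq_iff hG ht hw2 ha ha1).2 (hall w hw hw2)).symm
  right
  push Not at hall
  obtain ⟨u₀, hu₀, hu₀2, hu₀a⟩ := hall
  -- elements of exponent two, and those centralising `a`
  let Ω : Subgroup G :=
    { carrier := {x | x ∈ (S : Subgroup G) ∧ x * x = 1}
      one_mem' := ⟨one_mem _, one_mul _⟩
      mul_mem' := by
        rintro x z ⟨hx, hx2⟩ ⟨hz, hz2⟩
        refine ⟨mul_mem hx hz, ?_⟩
        calc x * z * (x * z) = x * (z * x) * z := by group
          _ = (x * x) * (z * z) := by rw [hab z hz x hx]; group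
          _ = 1 := by rw [hx2, hz2, one_mul]
      inv_mem' := by
        rintro x ⟨hx, hx2⟩
        exact ⟨inv_mem hx, by rw [← mul_inv_rev, hx2, inv_one]⟩ }
  have hΩ : ∀ {x : G}, x ∈ Ω ↔ x ∈ (S : Subgroup G) ∧ x * x = 1 := fun {x} => Iff.rfl
  have hΩ2 : ∀ {x : G}, x ∈ Ω → x ≠ 1 → orderOf x = 2 := fun hx h1 =>
    CfsgLib.Invol.orderOf_eq_two_iff'.2 ⟨h1, (hΩ.1 hx).2⟩
  have htΩ : t ∈ Ω := hΩ.2 ⟨htS, CfsgLib.Invol.mul_self_of_orderOf_two ht⟩
  have hyΩ : ∀ x ∈ Ω, y * x * y⁻¹ ∈ Ω := fun x hx => hΩ.2 ⟨mul_inv_mem_conj hyN (hΩ.1 hx).1, by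
    calc y * x * y⁻¹ * (y * x * y⁻¹) = y * (x * x) * y⁻¹ := by group
      _ = 1 := by rw [(hΩ.1 hx).2]; simp⟩
  set R : Subgroup G := Ω ⊓ centralizer ({a} : Set G) with hR
  have hRmem : ∀ {x : G}, x ∈ R ↔ x ∈ Ω ∧ x * a = a * x := fun {x} => by
    rw [hR, mem_inf, mem_centralizer_singleton_iff]
  have hinv : ∀ x ∈ Ω, x ∉ R → x * a * x⁻¹ = a⁻¹ := fun x hx hxR =>
    (invol_dichotomy hG ht ha hap (hinC x (hΩ.1 hx).1 t htS) (hΩ.1 hx).2).resolve_left fun e => hxR (hRmem.2 ⟨hx, e⟩)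
  have hmulR : ∀ x ∈ Ω, ∀ z ∈ Ω, x ∉ R → z ∉ R → x * z ∈ R := fun x hx z hz hxR hzR =>
    hRmem.2 ⟨mul_mem hx hz, mul_inv_eq_iff_eq_mul.1 (by
      calc x * z * a * (x * z)⁻¹ = x * (z * a * z⁻¹) * x⁻¹ := by group
        _ = (x * a * x⁻¹)⁻¹ := by rw [hinv z hz hzR]; group
        _ = a := by rw [hinv x hx hxR, inv_inv])⟩
  have hclass : ∀ x ∈ Ω, x ≠ 1 → (x ∈ R ↔ centralizer ({x} : Set G) = centralizer ({t} : Set G)) :=
    fun x hx hx1 => by
      rw [cent_eq_iff hG ht (hΩ2 hx hx1) ha ha1, hRmem]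
      exact ⟨fun h => h.2, fun h => ⟨hx, h⟩⟩
  have hu₀R : u₀ ∉ R := fun h => hu₀a (hRmem.1 h).2
  have hu₀Ω : u₀ ∈ Ω := hΩ.2 ⟨hu₀, CfsgLib.Invol.mul_self_of_orderOf_two hu₀2⟩
  set t' := y * t * y⁻¹ with ht'def
  have ht'Ω := hyΩ t htΩ
  have ht'2 : orderOf t' = 2 := (CfsgLib.Invol.orderOf_conj_eq y t).trans ht
  have htne : t' ≠ t := fun e =>
    CfsgLib.Invol.ne_one_of_orderOf_two ht (hfpf htS (mul_inv_eq_iff_eq_mul.1 e))
  have hinj : ∀ x ∈ Ω, ∀ z ∈ Ω, y * x * y⁻¹ * x⁻¹ = y * z * y⁻¹ * z⁻¹ → x = z := by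
    intro x hx z hz e
    refine (inv_mul_eq_one.1 (hfpf (mul_mem (inv_mem (hΩ.1 hx).1) (hΩ.1 hz).1) (mul_inv_eq_iff_eq_mul.1 ?_)))
    have hxz : z * x⁻¹ = x⁻¹ * z := hab z (hΩ.1 hz).1 _ (inv_mem (hΩ.1 hx).1)
    calc y * (x⁻¹ * z) * y⁻¹ = (y * x * y⁻¹)⁻¹ * (y * z * y⁻¹ * z⁻¹) * z := by group
      _ = (y * x * y⁻¹)⁻¹ * (y * x * y⁻¹ * x⁻¹) * z := by rw [e]
      _ = x⁻¹ * z := by group
  -- the class of `t` is not invariant
  have ht'R : t' ∉ R := by
    intro h
    have hCy : centralizer ({t'} : Set G) = centralizer ({t} : Set G) :=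
      (hclass t' ht'Ω (CfsgLib.Invol.ne_one_of_orderOf_two ht'2)).1 h
    have hRy : ∀ x ∈ Ω, (x ∈ R ↔ y * x * y⁻¹ ∈ R) := by
      intro x hx
      by_cases hx1 : x = 1
      · simp [hx1]
      rw [hclass x hx hx1, hclass _ (hyΩ x hx) (by simpa using hx1)]
      constructor
      · exact fun e => (cent_conj_congr e).trans hCy
      · intro e
        ext z
        have := congrArg (fun H : Subgroup G => y * z * y⁻¹ ∈ H) (e.trans hCy.symm)
        simp only [ht'def, mem_centralizer_conj, eq_iff_iff] at this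
        simpa [mul_assoc] using this
    have hle : Nat.card Ω ≤ Nat.card R := Nat.card_le_card_of_injective
      (fun x => (⟨y * x * y⁻¹ * (x : G)⁻¹, by
        by_cases hxR : (x : G) ∈ R
        · exact R.mul_mem ((hRy x x.2).1 hxR) (R.inv_mem hxR)
        · exact hmulR _ (hyΩ x x.2) _ (inv_mem x.2) (fun h => hxR ((hRy x x.2).2 h))
            (fun h => hxR (by simpa using inv_mem h))⟩ : R))
      (fun x z e => Subtype.ext (hinj x x.2 z z.2 (congrArg Subtype.val e)))
    exact hu₀R ((eq_of_le_of_card_ge inf_le_left hle : R = Ω).symm ▸ hu₀Ω)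
  -- so the class of `t` is trivial
  have hRt : ∀ x ∈ R, x = 1 ∨ x = t := by
    intro x hx
    by_cases hx1 : x = 1
    · exact Or.inl hx1
    right
    have hxΩ := (hRmem.1 hx).1
    have hCx := (hclass x hxΩ hx1).1 hx
    set x' := y * x * y⁻¹ with hx'
    have hx'1 : x' ≠ 1 := by simpa [hx'] using hx1
    have hCx' : centralizer ({x'} : Set G) = centralizer ({t'} : Set G) := cent_conj_congr hCx
    have hx'R : x' ∉ R := fun h => ht'R ((hclass t' ht'Ω (CfsgLib.Invol.ne_one_of_orderOf_two ht'2)).2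
      (hCx' ▸ (hclass x' (hyΩ x hxΩ) hx'1).1 h))
    by_contra hne
    have hne' : x' * t' ≠ 1 := fun e => hne (by
      have h1 : x' = t' := (mul_eq_one_iff_eq_inv.1 e).trans (CfsgLib.Invol.inv_eq_of_orderOf_two ht'2)
      simpa [hx', ht'def] using h1)
    -- `x' t'` would centralise `a` and share the centraliser of `t'`
    have hm : x' * t' ∈ R := hmulR _ (hyΩ x hxΩ) _ ht'Ω hx'R ht'R
    have h1 : x * t ∈ R := mul_mem hx (hRmem.2 ⟨htΩ, (mem_centralizer_singleton_iff.1 (oddPart_le t ha)).symm⟩)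
    have hxt1 : x * t ≠ 1 := fun e =>
      hne ((mul_eq_one_iff_eq_inv.1 e).trans (CfsgLib.Invol.inv_eq_of_orderOf_two ht))
    have h2 := cent_conj_congr (y := y) ((hclass _ (hRmem.1 h1).1 hxt1).1 h1)
    rw [← ht'def, show y * (x * t) * y⁻¹ = x' * t' by rw [hx', ht'def]; group] at h2
    exact ht'R ((hclass t' ht'Ω (CfsgLib.Invol.ne_one_of_orderOf_two ht'2)).2
      (h2.symm.trans ((hclass _ (hRmem.1 hm).1 hne').1 hm)))
  have hΩ4 : ∀ x ∈ Ω, x = 1 ∨ x = t ∨ x = t' ∨ x = t * t' := by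
    intro x hx
    by_cases hxR : x ∈ R
    · rcases hRt x hxR with h | h <;> simp [h]
    · rcases hRt _ (hmulR x hx t' ht'Ω hxR ht'R) with h | h
      · exact Or.inr (Or.inr (Or.inl ((mul_eq_one_iff_eq_inv.1 h).trans (CfsgLib.Invol.inv_eq_of_orderOf_two ht'2))))
      · refine Or.inr (Or.inr (Or.inr ?_))
        rw [← h, mul_assoc, CfsgLib.Invol.mul_self_of_orderOf_two ht'2, mul_one]
  -- `y` permutes the three involutions transitively
  have hy2 : y * t' * y⁻¹ = t * t' := by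
    rcases hΩ4 _ (hyΩ t' ht'Ω) with h | h | h | h
    · exact absurd (conj_eq_one_iff.1 h) (CfsgLib.Invol.ne_one_of_orderOf_two ht'2)
    · exfalso
      have hh : (y ^ 2) * t = t * (y ^ 2) := by
        rw [ht'def] at h
        calc y ^ 2 * t = y * (y * t * y⁻¹) * y⁻¹ * (y * y) := by rw [pow_two]; group
          _ = _ := by rw [h, pow_two]
      refine CfsgLib.Invol.ne_one_of_orderOf_two ht (hfpf htS ?_)
      have := mem_of_pow_two_mem (H := centralizer ({t} : Set G)) hy (k := 1)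
        (by rw [pow_one]; exact mem_centralizer_singleton_iff.2 hh)
      exact mem_centralizer_singleton_iff.1 this
    · exact absurd (hfpf (hΩ.1 ht'Ω).1 (mul_inv_eq_iff_eq_mul.1 h)) (CfsgLib.Invol.ne_one_of_orderOf_two ht'2)
    · exact h
  have htt' : t * t' ≠ 1 := fun e =>
    htne ((inv_eq_of_mul_eq_one_right e).symm.trans (CfsgLib.Invol.inv_eq_of_orderOf_two ht))
  -- no element of order four
  have hel : ∀ x ∈ (S : Subgroup G), x * x = 1 := by
    intro x hx
    by_contra hxx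
    have hx1 : x ≠ 1 := fun e => hxx (by rw [e, one_mul])
    obtain ⟨v, -, hv2, k, hk, hvk⟩ := exists_invol hS2 hx hx1
    rcases k with _ | k
    · rw [zero_add, pow_one] at hk
      exact hxx (CfsgLib.Invol.mul_self_of_orderOf_two hk)
    set q := x ^ 2 ^ k with hq
    have hqS : q ∈ (S : Subgroup G) := pow_mem hx _
    have hqq : q * q = v := by rw [hvk, hq, ← pow_add, ← two_mul, ← pow_succ']
    -- a square root of `t`
    obtain ⟨g, hgN, hg⟩ : ∃ g ∈ normalizer ((S : Subgroup G) : Set G), g * v * g⁻¹ = t := by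
      have hvΩ : v ∈ Ω := hΩ.2 ⟨hqq ▸ mul_mem hqS hqS, CfsgLib.Invol.mul_self_of_orderOf_two hv2⟩
      rcases hΩ4 v hvΩ with h | h | h | h
      · exact absurd h (CfsgLib.Invol.ne_one_of_orderOf_two hv2)
      · exact ⟨1, one_mem _, by rw [h]; group⟩
      · exact ⟨y⁻¹, inv_mem hyN, by rw [h, ht'def]; group⟩
      · exact ⟨y⁻¹ * y⁻¹, mul_mem (inv_mem hyN) (inv_mem hyN), by rw [h, ← hy2, ht'def]; group⟩
    set s := g * q * g⁻¹ with hs
    have hsS : s ∈ (S : Subgroup G) := (mem_normalizer_iff.1 hgN q).1 hqS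
    have hss : s * s = t := by rw [← hg, ← hqq, hs]; group
    have hroot : ∀ z ∈ (S : Subgroup G), z * z = t → z * a = a * z := by
      intro z hz hzz
      have htz : t ∈ zpowers z := hzz ▸ mul_mem (mem_zpowers z) (mem_zpowers z)
      have haN : a ∈ normalizer (zpowers z : Set G) := cent_invol_eq hG htz ht ▸ oddPart_le t ha
      have h1 : z * a * z⁻¹ * a⁻¹ ∈ zpowers z := by
        rw [show z * a * z⁻¹ * a⁻¹ = z * (a * z⁻¹ * a⁻¹) by group]
        exact mul_mem (mem_zpowers z) ((mem_normalizer_iff.1 haN _).1 (inv_mem (mem_zpowers z)))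
      have h2 : z * a * z⁻¹ * a⁻¹ ∈ oddPart t :=
        mul_mem (oddPart_normal (hinC z hz t htS) ha) (inv_mem ha)
      have h3 := CfsgLib.Invol.eq_one_of_odd_of_mem hS2 (zpowers_le.2 hz h1) (odd_of_mem_oddPart h2)
      exact mul_inv_eq_iff_eq_mul.1 (mul_inv_eq_one.1 h3)
    have hs' : s * t' * a = a * (s * t') := hroot _ (mul_mem hsS (hΩ.1 ht'Ω).1) (by
      calc s * t' * (s * t') = s * (t' * s) * t' := by group
        _ = (s * s) * (t' * t') := by rw [hab t' (hΩ.1 ht'Ω).1 s hsS]; group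
        _ = t := by rw [hss, CfsgLib.Invol.mul_self_of_orderOf_two ht'2, mul_one])
    have hsa := hroot s hsS hss
    refine ht'R (hRmem.2 ⟨ht'Ω, ?_⟩)
    calc t' * a = s⁻¹ * (s * t' * a) := by group
      _ = s⁻¹ * (a * s) * t' := by rw [hs']; group
      _ = a * t' := by rw [← hsa]; group
  -- so `S` is a four-group
  refine dih_of_elementary (le_antisymm ?_ ?_) hel
  · have : Nat.card (S : Subgroup G) ≤ Nat.card (Bool × Bool) :=
      Nat.card_le_card_of_surjective (fun p : Bool × Bool =>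
        (⟨(if p.1 then t else 1) * (if p.2 then t' else 1), by
          apply mul_mem <;> split_ifs <;>
            first | exact one_mem _ | exact htS | exact (hΩ.1 ht'Ω).1⟩ : (S : Subgroup G)))
        fun x => by
          rcases hΩ4 x (hΩ.2 ⟨x.2, hel x x.2⟩) with h | h | h | h
          · exact ⟨(false, false), Subtype.ext (by simp [h])⟩
          · exact ⟨(true, false), Subtype.ext (by simp [h])⟩
          · exact ⟨(false, true), Subtype.ext (by simp [h])⟩
          · exact ⟨(true, true), Subtype.ext (by simp [h])⟩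
    simpa using this
  · obtain ⟨m, hm⟩ := IsPGroup.iff_card.1 hS2
    rw [hm]
    refine le_trans (by norm_num : 4 ≤ 2 ^ 2) (Nat.pow_le_pow_right two_pos ?_)
    by_contra h
    have hle : Nat.card (S : Subgroup G) ≤ 2 := by
      rw [hm]; exact (Nat.pow_le_pow_right two_pos (by omega)).trans (le_of_eq (pow_one 2))
    have : (S : Subgroup G) = zpowers t := (eq_of_le_of_card_ge (zpowers_le.2 htS)
      (hle.trans (by rw [Nat.card_zpowers, ht]))).symm
    exact htne (CfsgLib.Invol.mem_zpowers_unique_involution (this ▸ (hΩ.1 ht'Ω).1) (mem_zpowers t) ht'2 ht)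

/-- If all involutions of `S` share their centraliser, the centralisers are abelian. -/
theorem centAbelian_of_same (hG : CycNorm G) (S : Sylow 2 G) (hS : Moved (S : Subgroup G))
    (hsame : ∀ u ∈ (S : Subgroup G), ∀ w ∈ (S : Subgroup G), orderOf u = 2 → orderOf w = 2 →
      centralizer ({u} : Set G) = centralizer ({w} : Set G)) :
    CfsgLib.PGroup.CAI.CentAbelian G := by
  haveI : Fact (Nat.Prime 2) := ⟨Nat.prime_two⟩
  obtain ⟨hS2, y, hyN, hy, hyC⟩ := hS
  have hab := comm_of_fpf hG hS2 hyN hy hyC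
  intro u hu
  obtain ⟨g, hg⟩ := CfsgLib.Invol.exists_mem_sylow_orderOf_two S hu
  set t := g * u * g⁻¹ with htdef
  have ht : orderOf t = 2 := (CfsgLib.Invol.orderOf_conj_eq g u).trans hu
  set C := centralizer ({t} : Set G) with hCdef
  have hSC : (S : Subgroup G) ≤ C := fun s hs => mem_centralizer_singleton_iff.2 (hab s hs t hg)
  have hCy : centralizer ({y * t * y⁻¹} : Set G) = C :=
    hsame _ (mul_inv_mem_conj hyN hg) t hg ((CfsgLib.Invol.orderOf_conj_eq y t).trans ht) ht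
  have hyA : ∀ x, x ∈ oddPart t → y⁻¹ * x * y ∈ oddPart t := by
    intro x hx
    rw [mem_oddPart_iff hG ht] at hx ⊢
    refine ⟨mem_centralizer_conj.1 (hCy.symm ▸ hx.1), ?_⟩
    have e := CfsgLib.Invol.orderOf_conj_eq y⁻¹ x
    rw [inv_inv] at e
    exact e ▸ hx.2
  -- scalar action on the elements of a given prime order
  have hfixp : ∀ (p : ℕ), p.Prime → ∀ a ∈ oddPart t, a ^ p = 1 →
      ∀ s ∈ (S : Subgroup G), s * a = a * s := by
    intro p hp a ha hap s hs
    by_cases ha1 : a = 1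
    · simp [ha1]
    have hao := orderOf_eq_prime_of_pow hp hap ha1
    haveI := Fact.mk hp
    have hscal : ∀ s ∈ (S : Subgroup G), ∃ i : ℤ, ∀ b ∈ oddPart t, b ^ p = 1 → s * b * s⁻¹ = b ^ i := by
      intro s hs
      obtain ⟨i, hi⟩ := conj_mem_zpowers hG ht ha (hSC hs)
      simp only at hi
      refine ⟨i, fun b hb hbp => ?_⟩
      by_cases hba : b ∈ zpowers a
      · obtain ⟨j, rfl⟩ := hba
        rw [← conj_zpow, ← hi, ← zpow_mul, ← zpow_mul, mul_comm]
      obtain ⟨j, hj⟩ := conj_mem_zpowers hG ht hb (hSC hs)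
      obtain ⟨k, hk⟩ := conj_mem_zpowers hG ht (mul_mem ha hb) (hSC hs)
      simp only at hj hk
      have hc : Commute a b := oddPart_comm hG ht ha hb
      have e : a ^ k * b ^ k = a ^ i * b ^ j := by
        rw [← hc.mul_zpow, hk, hi, hj]; group
      have e2 : b ^ (k - j) = a ^ (i - k) := by
        rw [zpow_sub, zpow_sub]
        calc b ^ k * (b ^ j)⁻¹ = (a ^ k)⁻¹ * (a ^ k * b ^ k) * (b ^ j)⁻¹ := by group
          _ = (a ^ k)⁻¹ * (a ^ i * b ^ j) * (b ^ j)⁻¹ := by rw [e]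
          _ = a ^ i * (a ^ k)⁻¹ := by group
      have h1 : b ^ (k - j) = 1 := by
        by_contra hne
        refine hba ?_
        have hbo := orderOf_eq_prime_of_pow hp hbp (fun e => hba (e ▸ one_mem _))
        have hgen : zpowers (b ^ (k - j)) = zpowers b := by
          refine eq_of_le_of_card_ge (zpowers_le.2 ⟨_, rfl⟩) ?_
          rw [Nat.card_zpowers, Nat.card_zpowers, hbo,
            orderOf_eq_prime_of_pow hp (by rw [← zpow_natCast, ← zpow_mul, mul_comm, zpow_mul, zpow_natCast, hbp, one_zpow]) hne]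
        have hm : b ^ (k - j) ∈ zpowers a := e2 ▸ zpow_mem (mem_zpowers a) _
        exact zpowers_le.2 hm (hgen ▸ mem_zpowers b)
      have hbo : b ^ k = b ^ j := by rwa [zpow_sub, mul_inv_eq_one] at h1
      have hao' : a ^ i = a ^ k := by rwa [h1, eq_comm, zpow_sub, mul_inv_eq_one] at e2
      rw [← hj, ← hbo, ← orderOf_dvd_sub_iff_zpow_eq_zpow]
      rw [← orderOf_dvd_sub_iff_zpow_eq_zpow, hao] at hao'
      rw [orderOf_eq_prime_of_pow hp hbp (fun e => hba (e ▸ one_mem _))]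
      exact dvd_sub_comm.1 hao'
    -- `y s y⁻¹ s⁻¹` acts trivially
    have htriv : ∀ s ∈ (S : Subgroup G), (y * s * y⁻¹ * s⁻¹) * a = a * (y * s * y⁻¹ * s⁻¹) := by
      intro s hs
      obtain ⟨i, hi⟩ := hscal s hs
      have h1 : s * a * s⁻¹ = a ^ i := hi a ha hap
      have h2 : (y * s * y⁻¹) * a * (y * s * y⁻¹)⁻¹ = a ^ i := by
        calc (y * s * y⁻¹) * a * (y * s * y⁻¹)⁻¹ = y * (s * (y⁻¹ * a * y) * s⁻¹) * y⁻¹ := by group
          _ = y * (y⁻¹ * a * y) ^ i * y⁻¹ := by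
            rw [hi _ (hyA a ha) (by
              have e := conj_pow (a := y⁻¹) (b := a) (i := p)
              rw [inv_inv] at e
              rw [e, hap]; group)]
          _ = a ^ i := by rw [← conj_zpow]; group
      have hs' := (mem_normalizer_iff.1 hyN s).1 hs
      have hc : Commute (y * s * y⁻¹) s⁻¹ := (show Commute _ s from hab _ hs' s hs).inv_right
      refine mul_inv_eq_iff_eq_mul.1 ?_
      calc y * s * y⁻¹ * s⁻¹ * a * (y * s * y⁻¹ * s⁻¹)⁻¹
          = (s⁻¹ * (y * s * y⁻¹)) * a * (s⁻¹ * (y * s * y⁻¹))⁻¹ := by rw [hc.eq]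
        _ = s⁻¹ * ((y * s * y⁻¹) * a * (y * s * y⁻¹)⁻¹) * s := by group
        _ = s⁻¹ * (s * a * s⁻¹) * s := by rw [h2, h1]
        _ = a := by group
    have hbij : Function.Bijective (fun x : (S : Subgroup G) =>
        (⟨y * x * y⁻¹ * (x : G)⁻¹, mul_mem (mul_inv_mem_conj hyN x.2) (inv_mem x.2)⟩ : (S : Subgroup G))) := by
      refine Finite.injective_iff_bijective.1 fun x z e => Subtype.ext ?_
      have e' := congrArg Subtype.val e
      simp only at e'
      refine inv_mul_eq_one.1 (fpf hG hS2 hyN hy hyC (mul_mem (inv_mem x.2) z.2) (mul_inv_eq_iff_eq_mul.1 ?_))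
      calc y * ((x : G)⁻¹ * z) * y⁻¹ = (y * x * y⁻¹)⁻¹ * (y * z * y⁻¹ * (z : G)⁻¹) * z := by group
        _ = (y * x * y⁻¹)⁻¹ * (y * x * y⁻¹ * (x : G)⁻¹) * z := by rw [e']
        _ = (x : G)⁻¹ * z := by group
    obtain ⟨x, hx⟩ := hbij.2 ⟨s, hs⟩
    have e : y * x * y⁻¹ * (x : G)⁻¹ = s := congrArg Subtype.val hx
    exact e ▸ htriv x x.2
  -- `S` centralises the odd part
  have hcent : ∀ n : ℕ, ∀ a ∈ oddPart t, orderOf a = n → ∀ s ∈ (S : Subgroup G), s * a = a * s := by
    intro n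
    induction n using Nat.strong_induction_on with
    | _ n ih =>
      intro a ha hn s hs
      by_cases ha1 : a = 1
      · simp [ha1]
      have hp := Nat.minFac_prime (fun e => ha1 (orderOf_eq_one_iff.1 e))
      set p := (orderOf a).minFac with hpdef
      have hdvd : p ∣ orderOf a := Nat.minFac_dvd _
      have hlt : orderOf (a ^ p) < n := by
        rw [← hn, orderOf_pow_of_dvd hp.ne_zero hdvd]
        exact Nat.div_lt_self (orderOf_pos a) hp.one_lt
      have hapc : s * a ^ p = a ^ p * s := ih _ hlt _ (pow_mem ha p) rfl s hs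
      set z := a⁻¹ * (s * a * s⁻¹) with hz
      have hsa : s * a * s⁻¹ ∈ oddPart t := oddPart_normal (hSC hs) ha
      have hzA : z ∈ oddPart t := mul_mem (inv_mem ha) hsa
      have hzp : z ^ p = 1 := by
        rw [hz, (show Commute a⁻¹ (s * a * s⁻¹) from oddPart_comm hG ht (inv_mem ha) hsa).mul_pow,
          conj_pow, hapc, mul_inv_cancel_right, inv_pow, inv_mul_cancel]
      have hsz : s * z = z * s := hfixp p hp z hzA hzp s hs
      have hiter : ∀ m : ℕ, s ^ m * a * (s ^ m)⁻¹ = a * z ^ m := by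
        intro m
        induction m with
        | zero => simp
        | succ m ihm =>
          calc s ^ (m + 1) * a * (s ^ (m + 1))⁻¹ = s * (s ^ m * a * (s ^ m)⁻¹) * s⁻¹ := by rw [pow_succ']; group
            _ = (s * a * s⁻¹) * (s * z * s⁻¹) ^ m := by rw [ihm, conj_pow]; group
            _ = (s * a * s⁻¹) * z ^ m := by rw [hsz, mul_inv_cancel_right]
            _ = a * z ^ (m + 1) := by rw [pow_succ', ← mul_assoc, hz, mul_inv_cancel_left]
      obtain ⟨e, he⟩ := CfsgLib.Invol.exists_orderOf_eq_two_pow hS2 hs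
      have h := hiter (orderOf s)
      rw [pow_orderOf_eq_one, one_mul, inv_one, mul_one, left_eq_mul, he] at h
      have hz1 : z = 1 := mem_bot.1 (mem_of_pow_two_mem (H := ⊥) (odd_of_mem_oddPart hzA) (mem_bot.2 h))
      rw [hz, inv_mul_eq_one] at hz1
      exact mul_inv_eq_iff_eq_mul.1 hz1.symm
  -- `C` is generated by `S` and its odd part
  set S' : Subgroup ↥C := (S : Subgroup G).subgroupOf C
  set O : Subgroup ↥C := Cfsg.oddCore ↥C
  have hZ : ∀ (x : ↥C), x ∈ S' ∨ x ∈ O → x ∈ centralizer ((S' ⊔ O : Subgroup ↥C) : Set ↥C) := by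
    intro x hx
    suffices hle : S' ⊔ O ≤ centralizer ({x} : Set ↥C) from
      mem_centralizer_iff.2 fun z hz => mem_centralizer_singleton_iff.1 (hle hz)
    refine sup_le (fun z hz => mem_centralizer_singleton_iff.2 (Subtype.ext ?_))
      (fun z hz => mem_centralizer_singleton_iff.2 (Subtype.ext ?_))
    · rcases hx with hx | hx
      · exact hab z (mem_subgroupOf.1 hz) x (mem_subgroupOf.1 hx)
      · exact hcent _ x ⟨x, hx, rfl⟩ rfl z (mem_subgroupOf.1 hz)
    · rcases hx with hx | hx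
      · exact (hcent _ z ⟨z, hz, rfl⟩ rfl x (mem_subgroupOf.1 hx)).symm
      · exact oddPart_comm hG ht ⟨z, hz, rfl⟩ ⟨x, hx, rfl⟩
  have htop : S' ⊔ O = ⊤ := by
    rw [← index_eq_one]
    have h1 : (S' ⊔ O).index ∣ S'.index := index_dvd_of_le le_sup_left
    have h2 : (S' ⊔ O).index ∣ O.index := index_dvd_of_le le_sup_right
    have hodd : ¬ 2 ∣ S'.index := fun h => S.not_dvd_index (h.trans (relIndex_dvd_index_of_le hSC))
    obtain ⟨k, hk⟩ := IsPGroup.iff_card.1 (isPGroup_quotient_oddCore hG ht)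
    rw [← index_eq_card] at hk
    rw [hk] at h2
    obtain ⟨j, -, hj⟩ := (Nat.dvd_prime_pow Nat.prime_two).1 h2
    rcases j with _ | j
    · simpa using hj
    · exact absurd ((hj ▸ dvd_pow_self 2 (Nat.succ_ne_zero j)).trans h1) hodd
  have hcomm : ∀ p q : ↥C, p * q = q * p := by
    intro p q
    have hle : S' ⊔ O ≤ centralizer ((S' ⊔ O : Subgroup ↥C) : Set ↥C) :=
      sup_le (fun x hx => hZ x (Or.inl hx)) (fun x hx => hZ x (Or.inr hx))
    exact mem_centralizer_iff.1 (hle (htop.symm ▸ mem_top q)) p (htop.symm ▸ mem_top p)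
  refine ⟨⟨fun p q => Subtype.ext ?_⟩⟩
  have hmem : ∀ {x : G}, x ∈ centralizer ({u} : Set G) → g * x * g⁻¹ ∈ C := fun {x} hx => by
    rw [hCdef, htdef, mem_centralizer_conj]
    simpa [mul_assoc] using hx
  have e := congrArg Subtype.val (hcomm ⟨_, hmem p.2⟩ ⟨_, hmem q.2⟩)
  simp only [coe_mul] at e ⊢
  have e' : g * ((p : G) * q) * g⁻¹ = g * ((q : G) * p) * g⁻¹ := by
    calc g * ((p : G) * q) * g⁻¹ = g * p * g⁻¹ * (g * q * g⁻¹) := by group
      _ = g * q * g⁻¹ * (g * p * g⁻¹) := e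
      _ = _ := by group
  exact mul_left_cancel (mul_right_cancel e')

end CfsgLib.Recognition.CycNorm
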