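import Cfsg.Agent.Lib.Recognition.CycNorm.NoEight
import Cfsg.Agent.Lib.Classical.SL2Klein
import Cfsg.Agent.Lib.KnownSimple.PSLAut.Out
import Cfsg.Agent.Lib.KnownSimple.PSLAut.Descent
import Cfsg.Agent.Lib.Classical22.PGLMaxTools

/-!
# Groups between `PSL₂(q)` and its automorphism group
-/

set_option autoImplicit false
set_option linter.dupNamespace false
set_option linter.style.haveILetI false
set_option linter.unusedSectionVars false

namespace CfsgLib.Recognition.CycNorm

open Matrix CfsgLib.Classical.SL2Q CfsgLib.Fusion.PSL2 CfsgLib.PSLAut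
open CfsgLib.Classical22.PGLMax (pslImage range_comp_toGL card_pslImage)

variable {G : Type*} [Group G] [Finite G] {F : Type} [Field F] [Fintype F]

local notation "SL2" => Matrix.SpecialLinearGroup (Fin 2) F
local notation "K2" => Matrix.ProjectiveSpecialLinearGroup (Fin 2) F

/-- Conjugation on a normal subgroup isomorphic to `PSL₂`. -/
def actHom (L : Subgroup G) [L.Normal] (e : ↥L ≃* K2) : G →* MulAut K2 where
  toFun g := (e.symm.trans (MulAut.conjNormal g)).trans e
  map_one' := MulEquiv.ext fun x => by simp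
  map_mul' g h := MulEquiv.ext fun x => by simp

theorem actHom_apply (L : Subgroup G) [L.Normal] (e : ↥L ≃* K2) (g : G) (l : ↥L) :
    actHom L e g (e l) = e (MulAut.conjNormal g l) := by simp [actHom]

theorem commute_of_fix {L : Subgroup G} [L.Normal] {e : ↥L ≃* K2} {g : G} {l : ↥L}
    (h : actHom L e g (e l) = e l) : g * (l : G) = (l : G) * g := by
  rw [actHom_apply] at h
  exact mul_inv_eq_iff_eq_mul.1 (by simpa [MulAut.conjNormal_apply] using congrArg Subtype.val (e.injective h))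

theorem fix_of_commute {L : Subgroup G} [L.Normal] {e : ↥L ≃* K2} {g : G} {l : ↥L}
    (h : g * (l : G) = (l : G) * g) : actHom L e g (e l) = e l := by
  rw [actHom_apply]
  congr 1
  exact Subtype.ext (by rw [MulAut.conjNormal_apply, h, mul_inv_cancel_right])

theorem actHom_injective {L : Subgroup G} [L.Normal] (e : ↥L ≃* K2)
    (hC : Subgroup.centralizer (L : Set G) = ⊥) : Function.Injective (actHom L e) := by
  rw [injective_iff_map_eq_one]
  intro g hg
  rw [← Subgroup.mem_bot, ← hC, Subgroup.mem_centralizer_iff]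
  intro l hl
  exact (commute_of_fix (e := e) (g := g) (l := ⟨l, hl⟩) (by rw [hg]; rfl)).symm

theorem actHom_mem (L : Subgroup G) [L.Normal] (e : ↥L ≃* K2) {l : G} (hl : l ∈ L) :
    actHom L e l = MulAut.conj (e ⟨l, hl⟩) := by
  refine MulEquiv.ext fun x => ?_
  obtain ⟨y, rfl⟩ := e.surjective x
  rw [actHom_apply, MulAut.conj_apply, ← map_inv, ← map_mul, ← map_mul]
  congr 1

theorem exists_apply_psl (β : MulAut K2) :
    ∃ (M : GL (Fin 2) F) (σ : F ≃+* F), β = conjAut M * fieldAut σ := by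
  obtain ⟨g, σ, h | ⟨h3, -⟩⟩ := aut_classification (le_refl 2) β
  · exact ⟨g, σ, h⟩
  · omega

theorem ne_proj_wM {k : SL2} (h2 : (2 : F) ≠ 0) (hk : IsFlip k) : proj wM ≠ proj k := by
  intro h
  rcases proj_eq_iff.1 h.symm with e | e
  · exact IsFlip.notMem_torus h2 hk (e ▸ wM_mem_torus)
  · exact IsFlip.notMem_torus h2 hk (e ▸ mul_mem negOne_mem_torus wM_mem_torus)

theorem proj_commute_flip {k : SL2} (hk : IsFlip k) : proj wM * proj k = proj k * proj wM := by
  rw [← map_mul proj k, isFlip_iff.1 hk, map_mul, map_mul, proj_negOne, one_mul]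

/-- A flip with entries in the prime field. -/
theorem exists_prime_flip : ∃ k : SL2, IsFlip k ∧ ∀ σ : F ≃+* F, fieldSL σ k = k := by
  obtain ⟨p, hp⟩ := CharP.exists F
  haveI := hp
  haveI : Fact p.Prime := ⟨CharP.char_is_prime F p⟩
  obtain ⟨a, b, hab⟩ := ZMod.sq_add_sq p (-1)
  let c : ZMod p →+* F := ZMod.castHom dvd_rfl F
  have habF : c a ^ 2 + c b ^ 2 = -1 := by
    rw [← map_pow, ← map_pow, ← map_add, hab, map_neg, map_one]
  refine ⟨⟨!![c a, c b; c b, -c a], by rw [Matrix.det_fin_two]; simp; linear_combination -habF⟩,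
    ⟨by simp, by simp⟩, fun σ => ?_⟩
  have hfix : ∀ x, σ (c x) = c x := fun x =>
    RingHom.congr_fun (Subsingleton.elim ((σ : F →+* F).comp c) c) x
  refine Subtype.ext (Matrix.ext fun i j => ?_)
  show σ _ = _
  fin_cases i <;> fin_cases j <;> simp [hfix]

/-- The 2-elements induce no field automorphisms. -/
theorem field_invol (h8 : NoEight G) {L : Subgroup G} [L.Normal] (e : ↥L ≃* K2) (h2 : (2 : F) ≠ 0)
    (ψ : MulAut K2 →* F ≃+* F) (hψ : ψ.ker = (conjAut : GL (Fin 2) F →* MulAut K2).range) {u : G}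
    (hu : u * u = 1) : ψ (actHom L e u) = 1 := by
  obtain ⟨M, σ, hβ⟩ := exists_apply_psl (actHom L e u)
  have hconj : ∀ N, ψ (conjAut N) = 1 := fun N => MonoidHom.mem_ker.1 (hψ.symm ▸ ⟨N, rfl⟩)
  by_contra hne
  have hσ1 : σ ≠ 1 := fun h => hne (by rw [hβ, map_mul, hconj, h, map_one, map_one, mul_one])
  have hpow : (conjAut M * fieldAut σ : MulAut K2) ^ 2 = 1 := by
    rw [← hβ, pow_two, ← map_mul, hu, map_one]
  rw [conjAut_mul_fieldAut_pow] at hpow
  obtain ⟨hσ2, -⟩ := eq_one_of_semilinear_eq_one (le_refl 2) hpow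
  have hord : orderOf σ = 2 := orderOf_eq_prime hσ2 hσ1
  have hσ2' : σ ^ 2 = 1 := hσ2
  rw [hσ2', map_one, mul_one] at hpow
  have hcen : twNorm σ 2 M ∈ Subgroup.center (GL (Fin 2) F) := by
    rw [← ker_conjAut (le_refl 2)]; exact hpow
  obtain ⟨c, hc⟩ : ∃ c : Fˣ, twNorm σ 2 M = GeneralLinearGroup.scalar (Fin 2) c := by
    obtain ⟨-, c, hc⟩ := eq_one_of_semilinear_eq_one (le_refl 2) (g := twNorm σ 2 M) (σ := 1)
      (by rw [map_one, mul_one]; exact hpow)
    have hc0 : c ≠ 0 := fun h => by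
      have h1 : IsUnit ((twNorm σ 2 M : GL (Fin 2) F) : Matrix (Fin 2) (Fin 2) F) := (twNorm σ 2 M).isUnit
      rw [hc, h] at h1
      simp at h1
    refine ⟨Units.mk0 c hc0, Units.ext ?_⟩
    rw [hc]
    ext i j
    fin_cases i <;> fin_cases j <;> simp
  obtain ⟨h, d, hM⟩ := exists_coboundary_of_scalar hord hc (by norm_num)
  have hsc : (conjAut (GeneralLinearGroup.scalar (Fin 2) d) : MulAut K2) = 1 := by
    rw [← MonoidHom.mem_ker, ker_conjAut (le_refl 2), Subgroup.mem_center_iff]
    exact fun N => Units.ext (by ext i j; simp [mul_comm])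
  have hswap : (fieldAut σ : MulAut K2) * conjAut h = conjAut (fieldGL σ h) * fieldAut σ :=
    fieldAut_mul_conjAut σ h
  have hβ' : actHom L e u = conjAut h * fieldAut σ * (conjAut h)⁻¹ := by
    rw [hβ, hM, map_mul, hsc, one_mul, map_mul, map_inv, mul_assoc, mul_assoc]
    congr 1
    rw [eq_mul_inv_iff_mul_eq, mul_assoc, hswap, inv_mul_cancel_left]
  obtain ⟨k, hk, hkfix⟩ := exists_prime_flip (F := F)
  have hwfix : fieldSL σ (wM : SL2) = wM := by
    refine Subtype.ext (Matrix.ext fun i j => ?_)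
    show σ _ = _
    fin_cases i <;> fin_cases j <;> simp [wM]
  have hfix : ∀ A : SL2, fieldSL σ A = A → actHom L e u (conjAut h (proj A)) = conjAut h (proj A) := by
    intro A hA
    rw [hβ']
    simp only [MulAut.mul_apply, MulAut.inv_apply_self]
    congr 1
    show fieldAut σ (QuotientGroup.mk A) = _
    rw [fieldAut_mk, hA]
    rfl
  set a := e.symm (conjAut h (proj wM))
  set b := e.symm (conjAut h (proj k))
  have hua : u * (a : G) = (a : G) * u := commute_of_fix (e := e) (l := a) (by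
    rw [show e a = conjAut h (proj wM) from e.apply_symm_apply _]; exact hfix _ hwfix)
  have hub : u * (b : G) = (b : G) * u := commute_of_fix (e := e) (l := b) (by
    rw [show e b = conjAut h (proj k) from e.apply_symm_apply _]; exact hfix _ (hkfix σ))
  have hoa : orderOf a = 2 := by
    simp only [a, MulEquiv.orderOf_eq, orderOf_proj_of_trace h2 wM_trace]
  have hob : orderOf b = 2 := by
    simp only [b, MulEquiv.orderOf_eq, orderOf_proj_of_trace h2 hk.trace]
  have hab : a * b = b * a := by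
    rw [← map_mul e.symm, ← map_mul e.symm, ← map_mul (conjAut h), ← map_mul (conjAut h), proj_commute_flip hk]
  have hne' : a ≠ b := fun e' => ne_proj_wM h2 hk ((conjAut h).injective (e.symm.injective e'))
  have hinL : u ∈ L := by
    rcases h8 (a : G) (b : G) u (by rw [← Subgroup.coe_mul, mul_self_of_order_two hoa]; rfl)
      (by rw [← Subgroup.coe_mul, mul_self_of_order_two hob]; rfl) hu (congrArg Subtype.val hab) hua.symm hub.symm
      (fun e' => by rw [← Subgroup.orderOf_coe, e', orderOf_one] at hoa; omega)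
      (fun e' => by rw [← Subgroup.orderOf_coe, e', orderOf_one] at hob; omega)
      (fun e' => hne' (Subtype.ext e')) with h | h | h | h <;> rw [h]
    · exact one_mem L
    · exact a.2
    · exact b.2
    · exact L.mul_mem a.2 b.2
  refine hne (MonoidHom.mem_ker.1 (hψ.symm ▸ ?_))
  rw [actHom_mem L e hinL]
  obtain ⟨s, hs⟩ := QuotientGroup.mk'_surjective _ (e ⟨u, hinL⟩)
  rw [← hs]
  exact ⟨_, (conj_eq_conjAut s).symm⟩

theorem torus_invol (h2 : (2 : F) ≠ 0) {T : SL2} (hT : T ∈ torus) (ho : orderOf (proj T) = 2) :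
    proj T = proj wM := by
  have hc : T ∉ Subgroup.center SL2 := fun h => by
    rw [show proj T = 1 from (QuotientGroup.eq_one_iff T).2 h, orderOf_one] at ho
    omega
  have hs : T * T ∈ Subgroup.center SL2 := (QuotientGroup.eq_one_iff (T * T)).1 (by
    rw [show ((T * T : SL2) : K2) = proj (T * T) from rfl, map_mul]; exact mul_self_of_order_two ho)
  have htr := trace_zero_of_sq h2 hs hc
  obtain ⟨t1, t2⟩ := hT
  have ha : T.1 0 0 = 0 := by
    refine (mul_eq_zero.1 (show (2 : F) * T.1 0 0 = 0 from ?_)).resolve_left h2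
    rw [← t1] at htr
    linear_combination htr
  have hd := det_eq T
  rw [← t1, t2, ha] at hd
  rcases mul_self_eq_one_iff.1 (show T.1 1 0 * T.1 1 0 = 1 by linear_combination hd) with h | h
  · refine congrArg proj (ext2 ?_ ?_ ?_ ?_) <;> simp [wM, ha, t2, h, ← t1]
  · refine proj_eq_iff.2 (Or.inr (ext2 ?_ ?_ ?_ ?_)) <;> rw [negOne_mul_entry] <;> simp [wM, ha, t2, h, ← t1]

/-- Elements of odd order fix the projective torus of `wM`. -/
theorem fix_torus (hG : CycNorm G) {L : Subgroup G} [L.Normal] (e : ↥L ≃* K2) (h2 : (2 : F) ≠ 0) {g : G}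
    (hg : g ∈ oddPart ((e.symm (proj wM) : ↥L) : G)) {T : SL2} (hT : T ∈ torus) :
    actHom L e g (proj T) = proj T := by
  haveI : Fact (Nat.Prime 2) := ⟨Nat.prime_two⟩
  set t : G := ((e.symm (proj wM) : ↥L) : G) with htdef
  have ht : orderOf t = 2 := by
    rw [htdef, Subgroup.orderOf_coe, MulEquiv.orderOf_eq, orderOf_proj_of_trace h2 wM_trace]
  set x : G := ((e.symm (proj T) : ↥L) : G) with hxdef
  have hxC : x ∈ Subgroup.centralizer ({t} : Set G) := Subgroup.mem_centralizer_singleton_iff.2 (by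
    rw [hxdef, htdef, ← Subgroup.coe_mul, ← Subgroup.coe_mul, ← map_mul, ← map_mul, ← map_mul, ← map_mul,
      torus_comm hT wM_mem_torus])
  suffices hcx : g * x = x * g by
    have := fix_of_commute (e := e) (l := e.symm (proj T)) hcx
    simpa using this
  set H := Subgroup.centralizer ({g} : Set G)
  obtain ⟨k, m, hm, hkm⟩ := Nat.exists_eq_two_pow_mul_odd (orderOf_pos x).ne'
  have hx1 : x ^ 2 ^ k ∈ H := by
    refine Subgroup.mem_centralizer_singleton_iff.2 (oddPart_comm hG ht ?_ hg)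
    rw [mem_oddPart_iff hG ht]
    refine ⟨pow_mem hxC _, ?_⟩
    rw [orderOf_pow_of_dvd (by positivity) (hkm ▸ dvd_mul_right _ _), hkm, Nat.mul_div_cancel_left _ (by positivity)]
    exact hm
  have hx2 : x ^ m ∈ H := by
    set y := x ^ m with hy
    by_cases hy1 : y = 1
    · rw [hy1]; exact one_mem H
    have hp : IsPGroup 2 (Subgroup.zpowers y) := by
      have hyk : y ^ 2 ^ k = 1 := by rw [hy, ← pow_mul, mul_comm, ← hkm, pow_orderOf_eq_one]
      obtain ⟨i, -, hi⟩ := (Nat.dvd_prime_pow Nat.prime_two).1 (orderOf_dvd_of_pow_eq_one hyk)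
      exact IsPGroup.of_card (n := i) (by rw [Nat.card_zpowers, hi])
    obtain ⟨v, hvy, hv, -⟩ := exists_invol hp (Subgroup.mem_zpowers y) hy1
    obtain ⟨j, hj⟩ := Subgroup.zpowers_le.2 (pow_mem (Subgroup.mem_zpowers x) m) hvy
    simp only at hj
    have hvt : v = t := by
      have hTj : orderOf (proj (T ^ j)) = 2 := by
        refine Eq.trans ?_ hv
        rw [← hj, hxdef, ← SubgroupClass.coe_zpow, Subgroup.orderOf_coe, ← map_zpow, MulEquiv.orderOf_eq,
          map_zpow]
      rw [← hj, hxdef, htdef, ← SubgroupClass.coe_zpow, ← map_zpow, ← map_zpow,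
        torus_invol h2 (zpow_mem hT j) hTj]
    have hgN : g ∈ Subgroup.normalizer (Subgroup.zpowers y : Set G) :=
      cent_invol_eq hG (hvt ▸ hvy) ht ▸ oddPart_le t hg
    have h1 : y * g * y⁻¹ * g⁻¹ ∈ Subgroup.zpowers y := by
      rw [show y * g * y⁻¹ * g⁻¹ = y * (g * y⁻¹ * g⁻¹) by group]
      exact mul_mem (Subgroup.mem_zpowers y)
        ((Subgroup.mem_normalizer_iff.1 hgN _).1 (inv_mem (Subgroup.mem_zpowers y)))
    have h3 : y * g * y⁻¹ * g⁻¹ ∈ oddPart t := mul_mem (oddPart_normal (pow_mem hxC m) hg) (inv_mem hg)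
    exact Subgroup.mem_centralizer_singleton_iff.2 (mul_inv_eq_iff_eq_mul.1 (mul_inv_eq_one.1
      (CfsgLib.Invol.eq_one_of_odd_of_mem hp h1 (odd_of_mem_oddPart h3))))
  have hco : Nat.Coprime (2 ^ k) m := Nat.Coprime.pow_left k (Nat.coprime_two_left.2 hm)
  obtain ⟨p, q, hpq⟩ := Nat.Coprime.isCoprime hco
  have hxe : x = (x ^ 2 ^ k) ^ p * (x ^ m) ^ q := by
    rw [← zpow_natCast, ← _root_.zpow_mul, ← zpow_natCast x m, ← _root_.zpow_mul, ← _root_.zpow_add, mul_comm ((2 ^ k : ℕ) : ℤ),
      mul_comm (m : ℤ), hpq, zpow_one]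
  have hxH : x ∈ H := hxe ▸ mul_mem (zpow_mem hx1 p) (zpow_mem hx2 q)
  exact (Subgroup.mem_centralizer_singleton_iff.1 hxH).symm

/-- A field automorphism of odd prime order cannot fix the diagonal of the torus. -/
theorem no_odd_fix (h2 : (2 : F) ≠ 0) {σ : F ≃+* F} (hr : 3 ≤ orderOf σ)
    (hfix : ∀ T : SL2, T ∈ torus → σ (T.1 0 0) = T.1 0 0) : False := by
  classical
  set q₀ := Nat.card (fixedField σ)
  have hq₀ : 2 ≤ q₀ := Finite.one_lt_card (α := fixedField σ)
  have hq : q₀ ^ 3 ≤ Fintype.card F := card_fixedField σ ▸ Nat.pow_le_pow_right (by omega) hr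
  have hsqrt : ∀ v : F, Nat.card {t : F // t * t = v} ≤ 2 := by
    intro v
    by_cases he : ∃ t : F, t * t = v
    · obtain ⟨s, hs⟩ := he
      have h := Nat.card_le_card_of_injective (α := {t : F // t * t = v}) (β := Bool)
        (fun t => decide (t.1 = s)) (by
          rintro ⟨a, ha⟩ ⟨b, hb⟩ h
          simp only [decide_eq_decide] at h
          refine Subtype.ext ?_
          rcases mul_self_eq_mul_self_iff.1 (ha.trans hs.symm) with h1 | h1
          · exact h1.trans (h.1 h1).symm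
          · rcases mul_self_eq_mul_self_iff.1 (hb.trans hs.symm) with h3 | h3
            · exact (h.2 h3).trans h3.symm
            · exact h1.trans h3.symm)
      simpa using h
    · haveI : IsEmpty {t : F // t * t = v} := ⟨fun t => he ⟨t.1, t.2⟩⟩
      simp
  have h1 : Nat.card (torus : Subgroup SL2) ≤ Nat.card (fixedField σ) * 2 := by
    let f : ↥(torus : Subgroup SL2) → Σ a : fixedField σ, {t : F // t * t = 1 - (a : F) * a} := fun T =>
      ⟨⟨T.1.1 0 0, hfix T.1 T.2⟩, T.1.1 1 0, by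
        have hd := det_eq (T : SL2)
        rw [← T.2.1, T.2.2] at hd
        linear_combination hd⟩
    have hf : Function.Injective f := by
      rintro ⟨A, hA1, hA2⟩ ⟨B, hB1, hB2⟩ h
      have e0 : A.1 0 0 = B.1 0 0 := congrArg (fun s => ((s.1 : fixedField σ) : F)) h
      have e1 : A.1 1 0 = B.1 1 0 := congrArg (fun s => (s.2 : F)) h
      exact Subtype.ext (ext2 e0 (by rw [hA2, hB2, e1]) e1 (by rw [← hA1, ← hB1, e0]))
    refine (Nat.card_le_card_of_injective f hf).trans ?_
    haveI : Fintype (fixedField σ) := Fintype.ofFinite _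
    rw [Nat.card_sigma, Nat.card_eq_fintype_card]
    calc ∑ a : fixedField σ, Nat.card {t : F // t * t = 1 - (a : F) * a} ≤ ∑ _a : fixedField σ, 2 :=
          Finset.sum_le_sum fun a _ => hsqrt _
      _ = Fintype.card (fixedField σ) * 2 := by simp
  have h3 : Nat.card {t : F // 1 + t ^ 2 = 0} ≤ 2 :=
    (Nat.card_congr (Equiv.subtypeEquivRight fun t =>
      ⟨fun h => by linear_combination h, fun h => by linear_combination h⟩)).trans_le (hsqrt (-1))
  have h4 := card_torus (F := F) h2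
  have h5 : q₀ * q₀ * q₀ ≤ Fintype.card F := by linarith [show q₀ ^ 3 = q₀ * q₀ * q₀ by ring]
  nlinarith

/-- The automorphisms induced are projective. -/
theorem actHom_mem_conjAut (hG : CycNorm G) (h8 : NoEight G) (S : Sylow 2 G) {n : ℕ} {r s : G}
    (hd : DihData (S : Subgroup G) n r s) {L : Subgroup G} [L.Normal] (e : ↥L ≃* K2) (h2 : (2 : F) ≠ 0) (g : G) :
    actHom L e g ∈ (conjAut : GL (Fin 2) F →* MulAut K2).range := by
  haveI : Fact (Nat.Prime 2) := ⟨Nat.prime_two⟩
  haveI := finite_ringAut (F := F)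
  obtain ⟨ψ, -, hψ⟩ := exists_aut_hom_two (F := F) (n := 2) rfl
  set φ : G →* F ≃+* F := ψ.comp (actHom L e) with hφdef
  suffices h : φ g = 1 by rw [← hψ, MonoidHom.mem_ker]; exact h
  by_contra hg
  have hinv : ∀ u : G, u * u = 1 → φ u = 1 := fun u hu => field_invol h8 e h2 ψ hψ hu
  obtain ⟨hn, hr, hs, hor, hss, hsr, hns, hcard⟩ := id hd
  have hsr1 : s * r ∉ Subgroup.zpowers r := fun h => hns (by
    have := mul_mem h (inv_mem (Subgroup.mem_zpowers r))
    rwa [mul_inv_cancel_right] at this)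
  have hSker : ∀ x ∈ (S : Subgroup G), φ x = 1 := by
    intro x hx
    have hφs := hinv s hss
    have hφr : φ r = 1 := by
      have := hinv _ (hd.sq_of_not_mem (mul_mem hs hr) hsr1)
      rwa [map_mul, hφs, one_mul] at this
    have hker : Subgroup.zpowers r ≤ φ.ker := Subgroup.zpowers_le.2 hφr
    rcases hd.cases hx with h | h
    · exact hker h
    · have := MonoidHom.mem_ker.1 (hker h)
      rwa [map_mul, hφs, one_mul] at this
  have hodd : ∀ x : G, Odd (orderOf (φ x)) := by
    intro x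
    rw [← Nat.not_even_iff_odd, even_iff_two_dvd]
    intro h
    obtain ⟨k, m, hm, hkm⟩ := Nat.exists_eq_two_pow_mul_odd (orderOf_pos x).ne'
    have hx2 : φ (x ^ m) = 1 := by
      have hp : IsPGroup 2 (Subgroup.zpowers (x ^ m)) := by
        have hyk : (x ^ m) ^ 2 ^ k = 1 := by rw [← pow_mul, mul_comm, ← hkm, pow_orderOf_eq_one]
        obtain ⟨i, -, hi⟩ := (Nat.dvd_prime_pow Nat.prime_two).1 (orderOf_dvd_of_pow_eq_one hyk)
        exact IsPGroup.of_card (n := i) (by rw [Nat.card_zpowers, hi])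
      obtain ⟨P, hP⟩ := hp.exists_le_sylow
      obtain ⟨c, hc⟩ := CfsgLib.Invol.sylow_exists_conj P S
      have h1 := hSker _ ((hc _).2 (show c⁻¹ * (c * x ^ m * c⁻¹) * c ∈ (P : Subgroup G) by
        simpa [mul_assoc] using hP (Subgroup.mem_zpowers _)))
      rw [map_mul, map_mul, map_inv, mul_inv_eq_one, mul_eq_left] at h1
      exact h1
    rw [map_pow] at hx2
    exact (Nat.not_even_iff_odd.2 hm) (even_iff_two_dvd.2 (h.trans (orderOf_dvd_of_pow_eq_one hx2)))
  -- an element inducing a field automorphism of prime order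
  have hp := Nat.minFac_prime (fun e' => hg (orderOf_eq_one_iff.1 e'))
  set g₀ := g ^ (orderOf (φ g) / (orderOf (φ g)).minFac) with hg₀
  have hg₀p : (orderOf (φ g₀)).Prime := by
    rwa [hg₀, map_pow, orderOf_pow_orderOf_div (orderOf_pos _).ne' (Nat.minFac_dvd _)]
  -- centralising an involution of `L`
  set t₀ : ↥L := e.symm (proj wM) with ht₀
  have ht : orderOf t₀ = 2 := by rw [ht₀, MulEquiv.orderOf_eq, orderOf_proj_of_trace h2 wM_trace]
  obtain ⟨c, hc⟩ := involution_conj h2 (x := actHom L e g₀ (proj wM))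
    (by rw [MulEquiv.orderOf_eq, orderOf_proj_of_trace h2 wM_trace])
  set g₁ := ((e.symm c : ↥L) : G)⁻¹ * g₀ with hg₁
  have hg₁t : g₁ * (t₀ : G) = (t₀ : G) * g₁ := by
    refine commute_of_fix (e := e) ?_
    rw [hg₁, map_mul, MulAut.mul_apply, ht₀, MulEquiv.apply_symm_apply, map_inv,
      actHom_mem L e (e.symm c).2, Subtype.coe_eta, MulEquiv.apply_symm_apply, ← map_inv, MulAut.conj_apply, ← hc]
    group
  have hφl : ∀ l ∈ L, φ l = 1 := by
    intro l hl
    show ψ (actHom L e l) = 1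
    rw [← MonoidHom.mem_ker, hψ]
    rw [actHom_mem L e hl]
    obtain ⟨A, hA⟩ := QuotientGroup.mk'_surjective _ (e ⟨l, hl⟩)
    rw [← hA]
    exact ⟨_, (conj_eq_conjAut A).symm⟩
  have hφ₁ : φ g₁ = φ g₀ := by rw [hg₁, map_mul, hφl _ (inv_mem (e.symm c).2), one_mul]
  obtain ⟨k, hk⟩ := exists_odd_pow g₁
  set g₂ := g₁ ^ 2 ^ k with hg₂
  have hφ₂ : orderOf (φ g₂) = orderOf (φ g₀) := by
    rw [hg₂, map_pow, hφ₁, Nat.Coprime.orderOf_pow
      (Nat.Coprime.pow_right k (Nat.coprime_two_right.2 (hodd g₀)))]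
  have hg₂A : g₂ ∈ oddPart (t₀ : G) := (mem_oddPart_iff hG (by rw [Subgroup.orderOf_coe, ht])).2
    ⟨pow_mem (Subgroup.mem_centralizer_singleton_iff.2 hg₁t) _, hk⟩
  obtain ⟨M, σ, hβ⟩ := exists_apply_psl (actHom L e g₂)
  have hφσ : φ g₂ = ψ (fieldAut σ) := by
    show ψ (actHom L e g₂) = _
    rw [hβ, map_mul, show ψ (conjAut M) = 1 from MonoidHom.mem_ker.1 (hψ.symm ▸ ⟨M, rfl⟩), one_mul]
  have hσr : orderOf (ψ (fieldAut σ)) ∣ orderOf σ := (orderOf_map_dvd (ψ.comp fieldAut) σ)
  rw [← hφσ, hφ₂] at hσr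
  have hσodd : Odd (orderOf σ) := by
    have h1 : orderOf σ ∣ orderOf (actHom L e g₂) := by
      have h := pow_orderOf_eq_one (actHom L e g₂)
      nth_rewrite 1 [hβ] at h
      rw [conjAut_mul_fieldAut_pow] at h
      exact orderOf_dvd_of_pow_eq_one (eq_one_of_semilinear_eq_one (le_refl 2) h).1
    exact hk.of_dvd_nat (h1.trans (orderOf_map_dvd _ g₂))
  refine no_odd_fix h2 (σ := σ) ?_ fun T hT => ?_
  · have h3 : 3 ≤ orderOf (φ g₀) := by
      have h2' := hg₀p.two_le
      obtain ⟨j, hj⟩ := hodd g₀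
      omega
    exact h3.trans (Nat.le_of_dvd (orderOf_pos σ) hσr)
  have hf := fix_torus hG e h2 (ht₀ ▸ hg₂A) hT
  rw [hβ, MulAut.mul_apply, show fieldAut σ (proj T) = proj (fieldSL σ T) from fieldAut_mk σ T,
    show conjAut M (proj (fieldSL σ T)) = proj (conjSL M (fieldSL σ T)) from conjAut_mk M _] at hf
  have htr : ∀ A : SL2, (conjSL M A).1.trace = A.1.trace := fun A => by
    rw [conjSL_coe, Matrix.trace_mul_cycle, Units.inv_mul, Matrix.one_mul]
  have htT : (fieldSL σ T).1.trace = σ (2 * T.1 0 0) := by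
    rw [Matrix.trace_fin_two]; simp [fieldSL_coe, ← hT.1, two_mul]
  have htT' : T.1.trace = 2 * T.1 0 0 := by rw [Matrix.trace_fin_two, ← hT.1, two_mul]
  have hσ2 : σ (2 : F) = 2 := map_ofNat σ 2
  rcases proj_eq_iff.1 hf with h | h
  · have h' := congrArg (fun A : SL2 => A.1.trace) h
    simp only [htr, htT, htT', map_mul, hσ2] at h'
    exact mul_left_cancel₀ h2 h'
  · have h' := congrArg (fun A : SL2 => A.1.trace) h
    rw [htr, htT, Matrix.trace_fin_two, negOne_mul_entry, negOne_mul_entry, ← hT.1, map_mul, hσ2] at h'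
    have hneg : σ (T.1 0 0) = -T.1 0 0 := mul_left_cancel₀ h2 (by linear_combination h')
    have heven : ∀ j : ℕ, (σ ^ (2 * j)) (T.1 0 0) = T.1 0 0 := by
      intro j
      induction j with
      | zero => rfl
      | succ j ih =>
        rw [show 2 * (j + 1) = 2 * j + 1 + 1 by ring, pow_succ, pow_succ, RingAut.mul_apply, RingAut.mul_apply,
          hneg, map_neg, hneg, neg_neg, ih]
    obtain ⟨j, hj⟩ := hσodd
    have := heven (j + 1)
    rw [show 2 * (j + 1) = orderOf σ + 1 by omega, pow_succ, pow_orderOf_eq_one, one_mul] at this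
    exact this

/-- The group is `PSL₂` or `PGL₂`. -/
theorem psl_or_pgl (hG : CycNorm G) (h8 : NoEight G) (S : Sylow 2 G) {n : ℕ} {r s : G}
    (hd : DihData (S : Subgroup G) n r s) {L : Subgroup G} [L.Normal] (e : ↥L ≃* K2)
    (hC : Subgroup.centralizer (L : Set G) = ⊥) (hFo : Odd (Fintype.card F)) :
    Nonempty (G ≃* K2) ∨ Nonempty (G ≃* Matrix.ProjGenLinGroup (Fin 2) F) := by
  have h2 : (2 : F) ≠ 0 := by
    refine Ring.two_ne_zero fun h => ?_
    have := FiniteField.even_card_iff_char_two.1 h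
    obtain ⟨c, hc⟩ := hFo
    omega
  haveI := CfsgLib.Classical22.PGLMax.finite_pgl (F := F)
  let ι : Matrix.ProjGenLinGroup (Fin 2) F →* MulAut K2 :=
    QuotientGroup.lift _ conjAut (ker_conjAut (F := F) (le_refl 2)).ge
  have hι : Function.Injective ι := by
    rw [injective_iff_map_eq_one]
    intro x
    induction x using QuotientGroup.induction_on with | _ A =>
    intro h
    exact (QuotientGroup.eq_one_iff A).2 (ker_conjAut (F := F) (le_refl 2) ▸ MonoidHom.mem_ker.2 h)
  set H := (actHom L e).range.comap ι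
  have hmap : H.map ι = (actHom L e).range := by
    rw [Subgroup.map_comap_eq_self]
    rintro _ ⟨g, rfl⟩
    obtain ⟨M, hM⟩ := actHom_mem_conjAut hG h8 S hd e h2 g
    exact ⟨Matrix.ProjGenLinGroup.mk M, hM⟩
  let eH : G ≃* H := ((MonoidHom.ofInjective (actHom_injective e hC)).trans
    (MulEquiv.subgroupCongr hmap.symm)).trans (H.equivMapOfInjective ι hι).symm
  have hle : pslImage F ≤ H := by
    rw [← range_comp_toGL]
    rintro _ ⟨A, rfl⟩
    refine ⟨(e.symm (proj A) : ↥L), ?_⟩
    rw [actHom_mem L e (e.symm (proj A)).2, Subtype.coe_eta, MulEquiv.apply_symm_apply]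
    exact conj_eq_conjAut A
  have hidx : H.index ∣ 2 := by
    have hodd' : Fintype.card F % 2 = 1 := Nat.odd_iff.1 hFo
    have hdvd : H.index ∣ (pslImage F).index := Subgroup.index_dvd_of_le hle
    rwa [(card_pslImage (F := F) rfl hodd').2] at hdvd
  rcases (Nat.dvd_prime Nat.prime_two).1 hidx with h | h
  · refine Or.inr ⟨eH.trans ((MulEquiv.subgroupCongr (Subgroup.index_eq_one.1 h)).trans Subgroup.topEquiv)⟩
  · have heq : H = pslImage F := by
      refine (Subgroup.eq_of_le_of_card_ge hle ?_).symm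
      have h1 := Subgroup.card_mul_index H
      have h3 := Subgroup.card_mul_index (pslImage F)
      rw [h] at h1
      rw [(card_pslImage rfl (Nat.odd_iff.1 hFo)).2] at h3
      omega
    exact Or.inl ⟨eH.trans ((MulEquiv.subgroupCongr heq).trans
      (MonoidHom.ofInjective (Matrix.ProjectiveSpecialLinearGroup.toPGL_injective (n := Fin 2) (R := F))).symm)⟩

end CfsgLib.Recognition.CycNorm
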