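import Cfsg.Agent.Lib.Cores.Basic
import Cfsg.Agent.Lib.Invol.Dihedral
import Cfsg.Agent.Lib.Invol.Sylow

/-!
# Groups in which the nontrivial subgroups of a cyclic subgroup of even order have equal normalisers
-/

set_option autoImplicit false
set_option linter.dupNamespace false
set_option linter.style.haveILetI false
set_option linter.unusedSectionVars false

namespace CfsgLib.Recognition.CycNorm

open Subgroup

variable {G : Type*} [Group G]

/-- Every nontrivial subgroup of a cyclic subgroup of even order has the same normaliser as it. -/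
def CycNorm (G : Type*) [Group G] : Prop :=
  ∀ X : Subgroup G, IsCyclic ↥X → Even (Nat.card ↥X) → ∀ Y : Subgroup G, Y ≤ X → Y ≠ ⊥ →
    normalizer (X : Set G) = normalizer (Y : Set G)

theorem CycNorm.subgroup (hG : CycNorm G) (L : Subgroup G) : CycNorm ↥L := by
  intro X hX hev Y hY hY1
  have key : ∀ Z : Subgroup ↥L, normalizer (Z : Set ↥L) =
      (normalizer ((Z.map L.subtype : Subgroup G) : Set G)).subgroupOf L := by
    intro Z
    ext g
    rw [mem_subgroupOf, mem_normalizer_iff, mem_normalizer_iff]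
    constructor
    · intro h x
      constructor
      · rintro ⟨z, hz, rfl⟩
        exact ⟨g * z * g⁻¹, (h z).1 hz, by simp⟩
      · rintro ⟨z, hz, he⟩
        refine ⟨g⁻¹ * z * g, (h _).2 (by simpa [mul_assoc] using hz), ?_⟩
        simp only [coe_subtype] at he ⊢
        push_cast
        rw [he]
        group
    · intro h z
      constructor
      · intro hz
        obtain ⟨w, hw, he⟩ := (h (z : G)).1 ⟨z, hz, rfl⟩
        have : w = g * z * g⁻¹ := Subtype.ext (by simpa using he)
        exact this ▸ hw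
      · intro hz
        obtain ⟨w, hw, he⟩ := (h (z : G)).2 ⟨g * z * g⁻¹, hz, by simp⟩
        have : w = z := Subtype.ext (by simpa using he)
        exact this ▸ hw
  have e := equivMapOfInjective X L.subtype L.subtype_injective
  have hY1' : Y.map L.subtype ≠ ⊥ := fun h => hY1 ((map_eq_bot_iff_of_injective Y L.subtype_injective).1 h)
  rw [key, key, hG (X.map L.subtype) (e.isCyclic.1 hX) (Nat.card_congr e.toEquiv ▸ hev) (Y.map L.subtype)
    (map_mono hY) hY1']

theorem norm_eq (hG : CycNorm G) {x y : G} (hx : Even (orderOf x)) (hy : y ∈ zpowers x) (hy1 : y ≠ 1) :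
    normalizer (zpowers x : Set G) = normalizer (zpowers y : Set G) :=
  hG (zpowers x) inferInstance (by rwa [Nat.card_zpowers]) (zpowers y) (zpowers_le.2 hy)
    (by rwa [Ne, zpowers_eq_bot])

theorem normalizer_zpowers_invol [Finite G] {v : G} (hv : orderOf v = 2) :
    normalizer (zpowers v : Set G) = centralizer ({v} : Set G) := by
  have hcases : ∀ z ∈ zpowers v, z = 1 ∨ z = v := by
    intro z hz
    obtain ⟨k, hk⟩ := (Submonoid.mem_powers_iff _ _).1 (mem_powers_iff_mem_zpowers.2 hz)
    subst hk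
    rcases Nat.even_or_odd k with ⟨j, rfl⟩ | ⟨j, rfl⟩
    · left
      rw [← two_mul, pow_mul, pow_two, CfsgLib.Invol.mul_self_of_orderOf_two hv, one_pow]
    · right
      rw [pow_succ, pow_mul, pow_two, CfsgLib.Invol.mul_self_of_orderOf_two hv, one_pow, one_mul]
  ext g
  rw [mem_centralizer_singleton_iff]
  constructor
  · intro h
    rcases hcases _ ((mem_normalizer_iff.1 h v).1 (mem_zpowers v)) with h1 | h1
    · exact absurd (by simpa [mul_assoc] using congrArg (fun z => g⁻¹ * z * g) h1)
        (CfsgLib.Invol.ne_one_of_orderOf_two hv)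
    · exact mul_inv_eq_iff_eq_mul.1 h1
  · intro h
    refine mem_normalizer_iff.2 fun z => ⟨fun hz => ?_, fun hz => ?_⟩
    · rcases hcases z hz with rfl | rfl
      · simp
      · rw [h]; simp
    · rcases hcases _ hz with h1 | h1
      · have : z = 1 := by simpa [mul_assoc] using congrArg (fun w => g⁻¹ * w * g) h1
        subst this; exact one_mem _
      · have : z = v := by
          calc z = g⁻¹ * (g * z * g⁻¹) * g := by group
            _ = g⁻¹ * v * g := by rw [h1]
            _ = g⁻¹ * (g * v) := by rw [mul_assoc, h]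
            _ = v := by group
        subst this; exact mem_zpowers _

variable [Finite G]

theorem cent_invol_eq (hG : CycNorm G) {x v : G} (hvx : v ∈ zpowers x) (hv : orderOf v = 2) :
    centralizer ({v} : Set G) = normalizer (zpowers x : Set G) := by
  have hx : Even (orderOf x) := by
    rw [even_iff_two_dvd, ← hv]
    exact orderOf_dvd_of_mem_zpowers hvx
  rw [norm_eq hG hx hvx (CfsgLib.Invol.ne_one_of_orderOf_two hv), normalizer_zpowers_invol hv]

theorem cent_eq_norm_odd (hG : CycNorm G) {t a : G} (ht : orderOf t = 2) (hat : a * t = t * a)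
    (ha : Odd (orderOf a)) (ha1 : a ≠ 1) :
    centralizer ({t} : Set G) = normalizer (zpowers a : Set G) := by
  have hco : (orderOf t).Coprime (orderOf a) := by rw [ht]; exact Nat.coprime_two_left.2 ha
  have hc : Commute t a := hat.symm
  have hx : orderOf (t * a) = 2 * orderOf a := by rw [hc.orderOf_mul_eq_mul_orderOf_of_coprime hco, ht]
  have haz : a ∈ zpowers (t * a) := by
    have h1 : (t * a) ^ (orderOf a + 1) = a := by
      rw [hc.mul_pow, pow_succ a, pow_orderOf_eq_one, one_mul]
      obtain ⟨j, hj⟩ := ha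
      rw [hj, show 2 * j + 1 + 1 = 2 * (j + 1) by ring, pow_mul, pow_two,
        CfsgLib.Invol.mul_self_of_orderOf_two ht, one_pow, one_mul]
    have h2 := pow_mem (mem_zpowers (t * a)) (orderOf a + 1)
    rwa [h1] at h2
  have htz : t ∈ zpowers (t * a) := by
    have h := mul_mem (mem_zpowers (t * a)) (inv_mem haz)
    rwa [mul_inv_cancel_right] at h
  rw [cent_invol_eq hG htz ht, norm_eq hG (hx ▸ even_two_mul _) haz ha1]

/-- The odd part of an involution centraliser. -/
def oddPart (t : G) : Subgroup G :=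
  (Cfsg.oddCore (centralizer ({t} : Set G))).map (centralizer ({t} : Set G)).subtype

theorem oddPart_le (t : G) : oddPart t ≤ centralizer ({t} : Set G) := map_subtype_le _

theorem odd_of_mem_oddPart {t a : G} (ha : a ∈ oddPart t) : Odd (orderOf a) := by
  obtain ⟨b, hb, rfl⟩ := ha
  rw [coe_subtype, orderOf_coe]
  exact CfsgLib.Cores.odd_card_oddCore.of_dvd_nat
    (orderOf_mk b hb ▸ orderOf_dvd_natCard (⟨b, hb⟩ : ↥(Cfsg.oddCore (centralizer ({t} : Set G)))))

theorem mem_oddPart_iff (hG : CycNorm G) {t a : G} (ht : orderOf t = 2) :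
    a ∈ oddPart t ↔ a ∈ centralizer ({t} : Set G) ∧ Odd (orderOf a) := by
  refine ⟨fun h => ⟨oddPart_le t h, odd_of_mem_oddPart h⟩, fun ⟨hC, ho⟩ => ?_⟩
  by_cases ha1 : a = 1
  · subst ha1; exact one_mem _
  let a' : centralizer ({t} : Set G) := ⟨a, hC⟩
  have hN := cent_eq_norm_odd hG ht (mem_centralizer_singleton_iff.1 hC) ho ha1
  haveI : (zpowers a').Normal := ⟨fun z hz g => by
    obtain ⟨k, rfl⟩ := hz
    have hg : (g : G) ∈ normalizer (zpowers a : Set G) := hN ▸ g.2
    obtain ⟨l, hl⟩ := (mem_normalizer_iff.1 hg (a ^ k)).1 ⟨k, rfl⟩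
    exact ⟨l, Subtype.ext (by simpa [a'] using hl)⟩⟩
  have hodd : Odd (Nat.card (zpowers a')) := by
    rw [Nat.card_zpowers]
    rwa [← orderOf_coe]
  exact ⟨a', CfsgLib.Cores.le_oddCore_of_odd hodd (mem_zpowers a'), rfl⟩

theorem oddPart_normal {t g a : G} (hg : g ∈ centralizer ({t} : Set G)) (ha : a ∈ oddPart t) :
    g * a * g⁻¹ ∈ oddPart t := by
  obtain ⟨b, hb, rfl⟩ := ha
  exact ⟨⟨g, hg⟩ * b * ⟨g, hg⟩⁻¹, (inferInstance : (Cfsg.pPrimeCore 2 _).Normal).conj_mem b hb _, rfl⟩

theorem conj_mem_zpowers (hG : CycNorm G) {t a g : G} (ht : orderOf t = 2) (ha : a ∈ oddPart t)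
    (hg : g ∈ centralizer ({t} : Set G)) : g * a * g⁻¹ ∈ zpowers a := by
  by_cases ha1 : a = 1
  · subst ha1; simp
  · exact (mem_normalizer_iff.1 (cent_eq_norm_odd hG ht (mem_centralizer_singleton_iff.1 (oddPart_le t ha))
      (odd_of_mem_oddPart ha) ha1 ▸ hg) a).1 (mem_zpowers a)

end CfsgLib.Recognition.CycNorm
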