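import Cfsg.Agent.Lib.Recognition.CycNorm.Local

/-!
# A maximal moved 2-subgroup is a Sylow subgroup or a four-group
-/

set_option autoImplicit false
set_option linter.dupNamespace false
set_option linter.style.haveILetI false
set_option linter.unusedSectionVars false

namespace CfsgLib.Recognition.CycNorm

open Subgroup

variable {G : Type*} [Group G] [Finite G]

theorem mul_self_mem_of_le {D : Subgroup G} {g d : G} (hgN : g ∈ normalizer (D : Set G)) (hg2 : g * g ∈ D)
    (hd : d ∈ D) : g * d * (g * d) ∈ D := by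
  have h := D.mul_mem (D.mul_mem (mul_inv_mem_conj hgN hd) hg2) hd
  convert h using 1
  group

/-- A 2-element squaring into `D` moves each element of `D` by at most one involution. -/
theorem commutator_pair (hG : CycNorm G) {D : Subgroup G} (hmax : MaxMoved D) {g : G}
    (hgN : g ∈ normalizer (D : Set G)) {a : ℕ} (hga : g ^ 2 ^ a = 1) (hgD : g ∉ D) (hg2 : g * g ∈ D) :
    ∃ v ∈ D, orderOf v = 2 ∧ ∀ d ∈ D, d * g * d⁻¹ * g⁻¹ = 1 ∨ d * g * d⁻¹ * g⁻¹ = v := by
  obtain ⟨hD, y, hyN, hy, hyC⟩ := hmax.1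
  have hab := comm_of_fpf hG hD hyN hy hyC
  have hgg : ∀ d ∈ D, (g * g) * d * (g * g)⁻¹ = d := fun d hd => by rw [hab _ hg2 d hd, mul_inv_cancel_right]
  obtain ⟨d₀, hd₀, hne⟩ : ∃ d₀ ∈ D, g * d₀ * (g * d₀) ≠ 1 := by
    by_contra hall
    push Not at hall
    let Q : Subgroup G :=
      { carrier := {q | q ∈ normalizer (D : Set G) ∧
            ((∀ d ∈ D, q * d * q⁻¹ = d) ∨ (∀ d ∈ D, q * d * q⁻¹ = d⁻¹))}
        one_mem' := ⟨one_mem _, Or.inl fun d _ => by simp⟩
        mul_mem' := by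
          rintro p q ⟨hp, hp'⟩ ⟨hq, hq'⟩
          have e : ∀ d, p * q * d * (p * q)⁻¹ = p * (q * d * q⁻¹) * p⁻¹ := fun d => by group
          refine ⟨mul_mem hp hq, ?_⟩
          rcases hp' with hp' | hp' <;> rcases hq' with hq' | hq'
          · exact Or.inl fun d hd => by rw [e, hq' d hd, hp' d hd]
          · exact Or.inr fun d hd => by rw [e, hq' d hd, hp' _ (inv_mem hd)]
          · exact Or.inr fun d hd => by rw [e, hq' d hd, hp' d hd]
          · exact Or.inl fun d hd => by rw [e, hq' d hd, hp' _ (inv_mem hd), inv_inv]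
        inv_mem' := by
          rintro q ⟨hq, hq'⟩
          refine ⟨inv_mem hq, ?_⟩
          rcases hq' with hq' | hq'
          · refine Or.inl fun d hd => ?_
            nth_rewrite 1 [← hq' d hd]
            group
          · refine Or.inr fun d hd => ?_
            have e := hq' _ (inv_mem hd)
            rw [inv_inv] at e
            nth_rewrite 1 [← e]
            group }
    have hmem : ∀ {q : G}, q ∈ Q ↔ q ∈ normalizer (D : Set G) ∧
        ((∀ d ∈ D, q * d * q⁻¹ = d) ∨ (∀ d ∈ D, q * d * q⁻¹ = d⁻¹)) := fun {q} => Iff.rfl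
    have hg1 : g * g = 1 := by simpa using hall 1 (one_mem D)
    have hgQ : g ∈ Q := hmem.2 ⟨hgN, Or.inr fun d hd => by
      have h := hall d hd
      calc g * d * g⁻¹ = (g * d * (g * d)) * d⁻¹ * (g * g)⁻¹ := by group
        _ = d⁻¹ := by rw [h, hg1]; simp⟩
    have hCQ : centralizer (D : Set G) ≤ Q := fun q hq => hmem.2 ⟨centralizer_le_normalizer' D hq,
      Or.inl fun d hd => by rw [← mem_centralizer_iff.1 hq d hd, mul_inv_cancel_right]⟩
    have hcent : ∀ {q : G}, (∀ d ∈ D, q * d * q⁻¹ = d) → q ∈ centralizer (D : Set G) := fun h =>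
      mem_centralizer_iff.2 fun d hd => (mul_inv_eq_iff_eq_mul.1 (h d hd)).symm
    have hQ2 : ∀ q ∈ Q, ∃ k : ℕ, q ^ 2 ^ k ∈ centralizer (D : Set G) := by
      rintro q ⟨hq, hq' | hq'⟩
      · exact ⟨0, by simpa using hcent hq'⟩
      · refine ⟨1, hcent fun d hd => ?_⟩
        calc q ^ 2 ^ 1 * d * (q ^ 2 ^ 1)⁻¹ = q * (q * d * q⁻¹) * q⁻¹ := by rw [pow_one, pow_two]; group
          _ = q * d⁻¹ * q⁻¹ := by rw [hq' d hd]
          _ = (q * d * q⁻¹)⁻¹ := by group
          _ = d := by rw [hq' d hd, inv_inv]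
    have key : ∀ n ∈ normalizer (D : Set G), ∀ q ∈ Q, n * q * n⁻¹ ∈ Q := by
      rintro n hn q ⟨hq, hq'⟩
      have e : ∀ d, n * q * n⁻¹ * d * (n * q * n⁻¹)⁻¹ = n * (q * (n⁻¹ * d * n⁻¹⁻¹) * q⁻¹) * n⁻¹ := fun d => by
        group
      refine hmem.2 ⟨mul_mem (mul_mem hn hq) (inv_mem hn), ?_⟩
      rcases hq' with hq' | hq'
      · refine Or.inl fun d hd => ?_
        rw [e, hq' _ ((mem_normalizer_iff.1 (inv_mem hn) d).1 hd)]
        group
      · refine Or.inr fun d hd => ?_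
        rw [e, hq' _ ((mem_normalizer_iff.1 (inv_mem hn) d).1 hd)]
        group
    have hyQ : y ∈ normalizer (Q : Set G) := mem_normalizer_iff.2 fun q =>
      ⟨key y hyN q, fun h => by simpa [mul_assoc] using key y⁻¹ (inv_mem hyN) _ h⟩
    exact hgD (two_core hmax hCQ (fun d hd => hmem.2 ⟨le_normalizer hd,
      Or.inl fun e he => by rw [hab d hd e he, mul_inv_cancel_right]⟩) (fun q hq => hq.1) hQ2 hyN hyQ hy hyC hgQ hga)
  set h := g * d₀ with hh
  obtain ⟨v, hvh, hv, -⟩ := exists_invol hD (mul_self_mem_of_le hgN hg2 hd₀) hne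
  have hvD : v ∈ D := zpowers_le.2 (mul_self_mem_of_le hgN hg2 hd₀) hvh
  have hvh' : v ∈ zpowers h := zpowers_le.2 (mul_mem (mem_zpowers h) (mem_zpowers h)) hvh
  refine ⟨v, hvD, hv, fun d hd => ?_⟩
  set c := d * g * d⁻¹ * g⁻¹ with hc
  have hch : c = d * h * d⁻¹ * h⁻¹ := by
    have e : d₀ * d⁻¹ * d₀⁻¹ = d⁻¹ := by rw [hab d₀ hd₀ _ (inv_mem hd), mul_inv_cancel_right]
    calc c = d * g * (d₀ * d⁻¹ * d₀⁻¹) * g⁻¹ := by rw [e]
      _ = _ := by rw [hh]; group
  have hcz : c ∈ zpowers h := by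
    have hdN : d ∈ normalizer (zpowers h : Set G) :=
      cent_invol_eq hG hvh' hv ▸ mem_centralizer_singleton_iff.2 (hab d hd v hvD)
    rw [hch]
    exact mul_mem ((mem_normalizer_iff.1 hdN h).1 (mem_zpowers h)) (inv_mem (mem_zpowers h))
  have hcD : c ∈ D := by
    rw [hc, show d * g * d⁻¹ * g⁻¹ = d * (g * d⁻¹ * g⁻¹) by group]
    exact D.mul_mem hd (mul_inv_mem_conj hgN (inv_mem hd))
  have h1 : g * c * g⁻¹ = c := by
    obtain ⟨i, hi⟩ := hcz
    have e : h * c = c * h := by rw [← hi]; exact (Commute.refl h).zpow_right i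
    have e2 : d₀ * c * d₀⁻¹ = c := by rw [hab d₀ hd₀ c hcD, mul_inv_cancel_right]
    calc g * c * g⁻¹ = g * (d₀ * c * d₀⁻¹) * g⁻¹ := by rw [e2]
      _ = h * c * h⁻¹ := by rw [hh]; group
      _ = c := by rw [e, mul_inv_cancel_right]
  have h2 : g * c * g⁻¹ = c⁻¹ := by
    calc g * c * g⁻¹ = (g * d * g⁻¹) * ((g * g) * d⁻¹ * (g * g)⁻¹) := by rw [hc]; group
      _ = (g * d * g⁻¹) * d⁻¹ := by rw [hgg _ (inv_mem hd)]
      _ = c⁻¹ := by rw [hc]; group
  by_cases hc1 : c = 1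
  · exact Or.inl hc1
  · refine Or.inr (CfsgLib.Invol.mem_zpowers_unique_involution hcz hvh'
      (CfsgLib.Invol.orderOf_eq_two_iff'.2 ⟨hc1, ?_⟩) hv)
    nth_rewrite 1 [← h1, h2]
    exact inv_mul_cancel c

/-- A maximal moved subgroup inside a larger 2-group is a four-group. -/
theorem four_of_not_sylow (hG : CycNorm G) {D : Subgroup G} (hmax : MaxMoved D) (S : Sylow 2 G)
    (hDS : D ≤ (S : Subgroup G)) (hne : D ≠ (S : Subgroup G)) : Nat.card D = 4 ∧ ∀ d ∈ D, d * d = 1 := by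
  haveI : Fact (Nat.Prime 2) := ⟨Nat.prime_two⟩
  obtain ⟨hD, y, hyN, hy, hyC⟩ := hmax.1
  have hab := comm_of_fpf hG hD hyN hy hyC
  -- an element of the normaliser squaring into `D`
  obtain ⟨x, hxS, hxN, hxD⟩ : ∃ x ∈ (S : Subgroup G), x ∈ normalizer (D : Set G) ∧ x ∉ D := by
    by_contra hno
    push Not at hno
    haveI := S.2.isNilpotent
    have h : normalizer ((D.subgroupOf (S : Subgroup G) : Subgroup ↥(S : Subgroup G)) : Set ↥(S : Subgroup G)) =
        D.subgroupOf (S : Subgroup G) := by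
      refine le_antisymm (fun (x : ↥(S : Subgroup G)) hx => mem_subgroupOf.2 (hno x x.2 (mem_normalizer_iff.2 fun d => ?_))) le_normalizer
      constructor
      · exact fun hd => mem_subgroupOf.1 ((mem_normalizer_iff.1 hx ⟨d, hDS hd⟩).1 (mem_subgroupOf.2 hd))
      · intro hd
        have hdS : d ∈ (S : Subgroup G) := by
          simpa [mul_assoc] using mul_mem (mul_mem (inv_mem x.2) (hDS hd)) x.2
        exact mem_subgroupOf.1 ((mem_normalizer_iff.1 hx ⟨d, hdS⟩).2 (mem_subgroupOf.2 hd))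
    refine hne (le_antisymm hDS fun s hs => ?_)
    exact subgroupOf_eq_top.1 (normalizerCondition_iff_only_full_group_self_normalizing.1
      (Group.normalizerCondition_of_isNilpotent) _ h) hs
  obtain ⟨b, hb⟩ := CfsgLib.Invol.exists_orderOf_eq_two_pow S.2 hxS
  have hx1 : x ^ 2 ^ b = 1 := hb ▸ pow_orderOf_eq_one x
  classical
  have hex : ∃ k : ℕ, x ^ 2 ^ k ∈ D := ⟨b, hx1 ▸ one_mem D⟩
  obtain ⟨k, hk⟩ : ∃ k, Nat.find hex = k + 1 := Nat.exists_eq_succ_of_ne_zero fun e => hxD (by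
    have := Nat.find_spec hex
    rwa [e, pow_zero, pow_one] at this)
  set g := x ^ 2 ^ k with hgdef
  have hgD : g ∉ D := Nat.find_min hex (by omega)
  have hg2 : g * g ∈ D := by
    have := Nat.find_spec hex
    rw [hk, pow_succ, pow_mul] at this
    rwa [← pow_two]
  have hgN : g ∈ normalizer (D : Set G) := pow_mem hxN _
  have hga : g ^ 2 ^ b = 1 := by rw [hgdef, ← pow_mul, mul_comm, pow_mul, hx1, one_pow]
  -- a second one, with product of odd order modulo the centraliser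
  set N := normalizer (D : Set G)
  set K : Subgroup ↥N := (centralizer (D : Set G)).subgroupOf N
  haveI hK : K.Normal := ⟨fun c hc n => mem_subgroupOf.2
    ((mem_normalizer_iff.1 (normalizer_le_normalizer_centralizer D n.2) _).1 (mem_subgroupOf.1 hc))⟩
  set π := QuotientGroup.mk' K
  have hπ : ∀ n : ↥N, π n = 1 ↔ (n : G) ∈ centralizer (D : Set G) := fun n => by
    rw [QuotientGroup.mk'_apply, QuotientGroup.eq_one_iff]; exact mem_subgroupOf
  set g₁ : ↥N := ⟨g, hgN⟩
  have hgC : π g₁ ≠ 1 := fun e => hgD (two_cent hG hmax ((hπ _).1 e) hga)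
  have hgo : orderOf (π g₁) = 2 := CfsgLib.Invol.orderOf_eq_two_iff'.2 ⟨hgC, by
    rw [← map_mul, hπ]
    exact mem_centralizer_iff.2 fun d hd => hab d hd _ hg2⟩
  obtain ⟨w, hw1, hwodd, hw⟩ := CfsgLib.Invol.exists_inverted_odd (π g₁) hgo fun M hM hM2 hgM => by
    refine hgD (two_core hmax (Q := (M.comap π).map N.subtype) ?_ ?_ (map_subtype_le _) ?_ hyN ?_ hy hyC
      ⟨g₁, hgM, rfl⟩ hga)
    · intro c hc
      refine ⟨⟨c, centralizer_le_normalizer' D hc⟩, ?_, rfl⟩
      rw [SetLike.mem_coe, mem_comap, (hπ _).2 hc]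
      exact one_mem M
    · intro d hd
      refine ⟨⟨d, le_normalizer hd⟩, ?_, rfl⟩
      rw [SetLike.mem_coe, mem_comap, (hπ _).2 (mem_centralizer_iff.2 fun e he => hab e he d hd)]
      exact one_mem M
    · rintro _ ⟨q, hq, rfl⟩
      obtain ⟨i, hi⟩ := hM2 ⟨π q, hq⟩
      refine ⟨i, ?_⟩
      have := (hπ (q ^ 2 ^ i)).1 (by rw [map_pow]; simpa using congrArg Subtype.val hi)
      simpa using this
    · have key : ∀ n : ↥N, ∀ q ∈ (M.comap π).map N.subtype, (n : G) * q * (n : G)⁻¹ ∈ (M.comap π).map N.subtype := by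
        rintro n _ ⟨q, hq, rfl⟩
        exact ⟨n * q * n⁻¹, by simpa using hM.conj_mem _ hq (π n), by simp⟩
      exact mem_normalizer_iff.2 fun q => ⟨key ⟨y, hyN⟩ q,
        fun h => by simpa [mul_assoc] using key ⟨y, hyN⟩⁻¹ _ h⟩
  obtain ⟨w₀, hw₀⟩ := QuotientGroup.mk'_surjective K w
  obtain ⟨i, m, hm, him⟩ := Nat.exists_eq_two_pow_mul_odd (orderOf_pos (g₁ * w₀)).ne'
  set g' : ↥N := (g₁ * w₀) ^ m with hg'def
  have hπg' : π g' = π g₁ * w := by
    have h2 : (π g₁ * w) ^ 2 = 1 := by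
      rw [pow_two]
      calc π g₁ * w * (π g₁ * w) = π g₁ * w * ((π g₁)⁻¹ * w) := by rw [CfsgLib.Invol.inv_eq_of_orderOf_two hgo]
        _ = (π g₁ * w * (π g₁)⁻¹) * w := by group
        _ = 1 := by rw [hw, inv_mul_cancel]
    obtain ⟨j, rfl⟩ := hm
    rw [hg'def, map_pow, map_mul, hw₀, pow_succ, pow_mul, h2, one_pow, one_mul]
  have hg'a : (g' : G) ^ 2 ^ i = 1 := by
    have : g' ^ 2 ^ i = 1 := by rw [hg'def, ← pow_mul, mul_comm, ← him, pow_orderOf_eq_one]
    simpa using congrArg Subtype.val this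
  have hg'C : π g' ≠ 1 := by
    rw [hπg']
    intro e
    have : w = π g₁ := (inv_eq_of_mul_eq_one_right e).symm.trans (CfsgLib.Invol.inv_eq_of_orderOf_two hgo)
    rw [this, hgo] at hwodd
    exact absurd hwodd (by decide)
  have hg'D : (g' : G) ∉ D := fun h => hg'C ((hπ _).2 (mem_centralizer_iff.2 fun d hd => hab d hd _ h))
  have hg'2 : (g' : G) * g' ∈ D := by
    refine two_cent hG hmax (a := i) ?_ ?_
    · have h : π (g' * g') = 1 := by
        rw [map_mul, hπg']
        calc π g₁ * w * (π g₁ * w) = π g₁ * w * ((π g₁)⁻¹ * w) := by rw [CfsgLib.Invol.inv_eq_of_orderOf_two hgo]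
          _ = (π g₁ * w * (π g₁)⁻¹) * w := by group
          _ = 1 := by rw [hw, inv_mul_cancel]
      simpa using (hπ _).1 h
    · rw [(Commute.refl (g' : G)).mul_pow, hg'a, one_mul]
  obtain ⟨v, -, hv, hv'⟩ := commutator_pair hG hmax hgN hga hgD hg2
  obtain ⟨v₂, -, hv₂, hv₂'⟩ := commutator_pair hG hmax g'.2 hg'a hg'D hg'2
  -- common fixed points are trivial
  have hfix : ∀ d ∈ D, d * g = g * d → d * g' = g' * d → d = 1 := by
    intro d hd h1 h2
    obtain ⟨b', hb'⟩ := exists_odd_pow (g * g')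
    refine fpf hG hD (pow_mem (mul_mem hgN g'.2) (2 ^ b')) hb' (fun h => hw1 ?_) hd
      ((Commute.mul_left (Commute.symm h1) (Commute.symm h2)).pow_left _).eq
    have e : π ((g₁ * g') ^ 2 ^ b') = 1 := (hπ _).2 (by simpa [g₁] using h)
    rw [map_pow, map_mul, hπg', ← mul_assoc, CfsgLib.Invol.mul_self_of_orderOf_two hgo, one_mul] at e
    exact (mem_bot.1 (mem_of_pow_two_mem (H := ⊥) hwodd (mem_bot.2 e)))
  -- at most four elements
  have hle : Nat.card D ≤ 4 := by
    have := Nat.card_le_card_of_injective (α := ↥D) (β := Bool × Bool)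
      (fun d => (decide ((d : G) * g = g * d), decide ((d : G) * g' = g' * d))) ?_
    · simpa using this
    rintro ⟨p, hp⟩ ⟨q, hq⟩ he
    simp only [Prod.mk.injEq, decide_eq_decide] at he
    refine Subtype.ext (inv_mul_eq_one.1 (hfix _ (D.mul_mem (D.inv_mem hp) hq) ?_ ?_)).symm.symm
    · by_cases h : p * g = g * p
      · exact ((Commute.inv_left h).mul_left (he.1.1 h)).eq
      · have hp' := (hv' p hp).resolve_left fun e => h (mul_inv_eq_iff_eq_mul.1 (mul_inv_eq_one.1 e))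
        have hq' := (hv' q hq).resolve_left fun e => h (he.1.2 (mul_inv_eq_iff_eq_mul.1 (mul_inv_eq_one.1 e)))
        have e := mul_right_cancel (hp'.trans hq'.symm)
        calc p⁻¹ * q * g = p⁻¹ * (q * g * q⁻¹) * q := by group
          _ = p⁻¹ * (p * g * p⁻¹) * q := by rw [e]
          _ = g * (p⁻¹ * q) := by group
    · by_cases h : p * g' = g' * p
      · exact ((Commute.inv_left h).mul_left (he.2.1 h)).eq
      · have hp' := (hv₂' p hp).resolve_left fun e => h (mul_inv_eq_iff_eq_mul.1 (mul_inv_eq_one.1 e))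
        have hq' := (hv₂' q hq).resolve_left fun e => h (he.2.2 (mul_inv_eq_iff_eq_mul.1 (mul_inv_eq_one.1 e)))
        have e := mul_right_cancel (hp'.trans hq'.symm)
        calc p⁻¹ * q * g' = p⁻¹ * (q * g' * q⁻¹) * q := by group
          _ = p⁻¹ * (p * g' * p⁻¹) * q := by rw [e]
          _ = g' * (p⁻¹ * q) := by group
  -- elementary
  have hcl : ∀ d ∈ D, ∀ u ∈ zpowers d, orderOf u = 2 → D = zpowers d → False := fun d hd u hu hu2 hDd =>
    CfsgLib.Invol.ne_one_of_orderOf_two hu2 (fpf hG hD hyN hy hyC (zpowers_le.2 hd hu)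
      (mul_inv_eq_iff_eq_mul.1 (CfsgLib.Invol.mem_zpowers_unique_involution
        (hDd ▸ mul_inv_mem_conj hyN (zpowers_le.2 hd hu)) hu
        ((CfsgLib.Invol.orderOf_conj_eq y u).trans hu2) hu2)))
  have hel : ∀ d ∈ D, d * d = 1 := by
    intro d hd
    by_contra h
    obtain ⟨u, hu, hu2, k', hk', -⟩ := exists_invol hD hd (fun e => h (by rw [e, one_mul]))
    refine hcl d hd u hu hu2 (eq_of_le_of_card_ge (zpowers_le.2 hd) ?_).symm
    rw [Nat.card_zpowers, hk']
    rcases k' with _ | k'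
    · exact absurd (by rw [← pow_two]; exact (show (2 : ℕ) = orderOf d by simpa using hk'.symm) ▸ pow_orderOf_eq_one d) h
    · calc Nat.card D ≤ 4 := hle
        _ = 2 ^ 2 := by norm_num
        _ ≤ _ := Nat.pow_le_pow_right two_pos (by omega)
  refine ⟨le_antisymm hle ?_, hel⟩
  obtain ⟨d, hd, hd1⟩ : ∃ d ∈ D, d ≠ 1 := by
    by_contra hno
    push Not at hno
    exact hyC (mem_centralizer_iff.2 fun d hd => by rw [hno d hd, one_mul, mul_one])
  obtain ⟨n, hn⟩ := IsPGroup.iff_card.1 hD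
  have hd2 : orderOf d = 2 := CfsgLib.Invol.orderOf_eq_two_iff'.2 ⟨hd1, hel d hd⟩
  rcases (show n ≤ 1 ∨ 2 ≤ n by omega) with h | h
  · refine (hcl d hd d (mem_zpowers d) hd2 (eq_of_le_of_card_ge (zpowers_le.2 hd) ?_).symm).elim
    rw [Nat.card_zpowers, hd2, hn]
    exact (Nat.pow_le_pow_right two_pos h).trans (le_of_eq (pow_one 2))
  · rw [hn]
    exact (by norm_num : 4 ≤ 2 ^ 2).trans (Nat.pow_le_pow_right two_pos h)

end CfsgLib.Recognition.CycNorm
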