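import Cfsg.Agent.Lib.Recognition.CycNorm.Basic
import Cfsg.Agent.S0022
import Cfsg.Agent.Lib.Invol.Counting

/-!
# Odd automorphisms of 2-subgroups
-/

set_option autoImplicit false
set_option linter.dupNamespace false
set_option linter.style.haveILetI false
set_option linter.unusedSectionVars false

namespace CfsgLib.Recognition.CycNorm

open Subgroup

variable {G : Type*} [Group G] [Finite G]

/-- The involution in the cyclic group of a nontrivial 2-element. -/
theorem exists_invol {D : Subgroup G} (hD : IsPGroup 2 D) {x : G} (hx : x ∈ D) (hx1 : x ≠ 1) :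
    ∃ v ∈ zpowers x, orderOf v = 2 ∧ ∃ k : ℕ, orderOf x = 2 ^ (k + 1) ∧ v = x ^ 2 ^ k := by
  obtain ⟨k, hk⟩ := CfsgLib.Invol.exists_orderOf_eq_two_pow hD hx
  rcases k with _ | k
  · exact absurd (orderOf_eq_one_iff.1 (by simpa using hk)) hx1
  refine ⟨x ^ 2 ^ k, pow_mem (mem_zpowers x) _, ?_, k, hk, rfl⟩
  rw [orderOf_pow' x (pow_pos two_pos k).ne', hk]
  rw [Nat.gcd_eq_right (pow_dvd_pow 2 (Nat.le_succ k)), pow_succ, Nat.mul_div_cancel_left _ (pow_pos two_pos k)]

theorem mul_inv_mem_conj {D : Subgroup G} {y d : G} (hy : y ∈ normalizer (D : Set G)) (hd : d ∈ D) :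
    y * d * y⁻¹ ∈ D :=
  (mem_normalizer_iff.1 hy d).1 hd

/-- An odd element fixing an involution of a 2-group it normalises centralises that group. -/
theorem eq_centralize_of_fixed (hG : CycNorm G) {D : Subgroup G} (hD : IsPGroup 2 D) {y : G}
    (hyN : y ∈ normalizer (D : Set G)) (hy : Odd (orderOf y)) {d : G} (hd : d ∈ D) (hd1 : d ≠ 1)
    (hfix : y * d = d * y) : y ∈ centralizer (D : Set G) := by
  haveI : Fact (Nat.Prime 2) := ⟨Nat.prime_two⟩
  obtain ⟨v, hvd, hv, -⟩ := exists_invol hD hd hd1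
  have hvy : y * v = v * y := by
    obtain ⟨k, rfl⟩ := hvd
    exact (Commute.zpow_right hfix k).eq
  have hyA : y ∈ oddPart v := (mem_oddPart_iff hG hv).2 ⟨mem_centralizer_singleton_iff.2 hvy, hy⟩
  let F : Subgroup ↥D := (centralizer ({y} : Set G)).subgroupOf D
  have hvD : v ∈ D := zpowers_le.2 hd hvd
  -- the fixed points contain the centraliser of `v`
  have h1 : ∀ g ∈ D, g * v = v * g → g * y = y * g := by
    intro g hg hgv
    have hA : g * y * g⁻¹ * y⁻¹ ∈ oddPart v :=
      mul_mem (oddPart_normal (mem_centralizer_singleton_iff.2 hgv) hyA) (inv_mem hyA)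
    have hDm : g * y * g⁻¹ * y⁻¹ ∈ D := by
      rw [show g * y * g⁻¹ * y⁻¹ = g * (y * g⁻¹ * y⁻¹) by group]
      exact mul_mem hg (mul_inv_mem_conj hyN (inv_mem hg))
    have := CfsgLib.Invol.eq_one_of_odd_of_mem hD hDm (odd_of_mem_oddPart hA)
    rw [mul_inv_eq_one, mul_inv_eq_iff_eq_mul] at this
    exact this
  -- the fixed points are self-normalising
  have hnorm : normalizer (F : Set ↥D) = F := by
    refine le_antisymm (fun g hg => ?_) le_normalizer
    have hvF : (⟨v, hvD⟩ : ↥D) ∈ F := mem_subgroupOf.2 (mem_centralizer_singleton_iff.2 hvy.symm)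
    set g' : G := (g : G)
    set f : G := g'⁻¹ * (y * g' * y⁻¹) with hf
    have hfD : f ∈ D := mul_mem (inv_mem g.2) (mul_inv_mem_conj hyN g.2)
    -- `f` centralises `v`
    have hfv : f * v = v * f := by
      have hw := (mem_normalizer_iff.1 hg ⟨v, hvD⟩).1 hvF
      rw [mem_subgroupOf, mem_centralizer_singleton_iff] at hw
      push_cast at hw
      have e : y * (g' * v * g'⁻¹) * y⁻¹ = g' * v * g'⁻¹ := mul_inv_eq_iff_eq_mul.2 hw.symm
      have e2 : (y * g' * y⁻¹) * v * (y * g' * y⁻¹)⁻¹ = g' * v * g'⁻¹ := by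
        calc (y * g' * y⁻¹) * v * (y * g' * y⁻¹)⁻¹ = y * g' * y⁻¹ * (v * y) * g'⁻¹ * y⁻¹ := by group
          _ = y * g' * y⁻¹ * (y * v) * g'⁻¹ * y⁻¹ := by rw [hvy]
          _ = y * (g' * v * g'⁻¹) * y⁻¹ := by group
          _ = _ := e
      calc f * v = g'⁻¹ * ((y * g' * y⁻¹) * v * (y * g' * y⁻¹)⁻¹) * (y * g' * y⁻¹) := by rw [hf]; group
        _ = g'⁻¹ * (g' * v * g'⁻¹) * (y * g' * y⁻¹) := by rw [e2]
        _ = v * f := by rw [hf]; group
    have hfy := h1 f hfD hfv
    have hcf : Commute y f := hfy.symm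
    have hiter : ∀ n : ℕ, y ^ n * g' * (y ^ n)⁻¹ = g' * f ^ n := by
      intro n
      induction n with
      | zero => simp
      | succ n ih =>
        calc y ^ (n + 1) * g' * (y ^ (n + 1))⁻¹ = y * (y ^ n * g' * (y ^ n)⁻¹) * y⁻¹ := by
              rw [pow_succ']; group
          _ = y * g' * y⁻¹ * (y * f ^ n * y⁻¹) := by rw [ih]; group
          _ = y * g' * y⁻¹ * f ^ n := by rw [(hcf.pow_right n).eq, mul_inv_cancel_right]
          _ = g' * f * f ^ n := by rw [hf]; group
          _ = _ := by rw [mul_assoc, ← pow_succ']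
    have hfn := hiter (orderOf y)
    rw [pow_orderOf_eq_one, one_mul, inv_one, mul_one, left_eq_mul] at hfn
    have hf1 : f = 1 := CfsgLib.Invol.eq_one_of_odd_of_mem hD hfD
      (hy.of_dvd_nat (orderOf_dvd_of_pow_eq_one hfn))
    rw [hf, inv_mul_eq_one] at hf1
    exact mem_subgroupOf.2 (mem_centralizer_singleton_iff.2 (eq_mul_inv_iff_mul_eq.1 hf1))
  haveI := hD.isNilpotent
  have htop : F = ⊤ := normalizerCondition_iff_only_full_group_self_normalizing.1
    (Group.normalizerCondition_of_isNilpotent) F hnorm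
  refine mem_centralizer_iff.2 fun g hg => ?_
  have : (⟨g, hg⟩ : ↥D) ∈ F := htop ▸ mem_top _
  exact mem_centralizer_singleton_iff.1 (mem_subgroupOf.1 this)

/-- An odd element which normalises but does not centralise a 2-group acts without fixed points. -/
theorem fpf (hG : CycNorm G) {D : Subgroup G} (hD : IsPGroup 2 D) {y : G}
    (hyN : y ∈ normalizer (D : Set G)) (hy : Odd (orderOf y)) (hyC : y ∉ centralizer (D : Set G))
    {d : G} (hd : d ∈ D) (hfix : y * d = d * y) : d = 1 :=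
  by_contra fun h => hyC (eq_centralize_of_fixed hG hD hyN hy hd h hfix)

/-- A cyclic subgroup over a central involution is central. -/
theorem central_of_central_invol (hG : CycNorm G) {D : Subgroup G} (hD : IsPGroup 2 D) {y : G}
    (hyN : y ∈ normalizer (D : Set G)) (hy : Odd (orderOf y)) (hyC : y ∉ centralizer (D : Set G))
    {x v : G} (hx : x ∈ D) (hvx : v ∈ zpowers x) (hv : orderOf v = 2) (hvc : ∀ d ∈ D, v * d = d * v) :
    ∀ d ∈ D, x * d = d * x := by
  haveI : Fact (Nat.Prime 2) := ⟨Nat.prime_two⟩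
  have hx1 : x ≠ 1 := by
    rintro rfl
    rw [zpowers_one_eq_bot, mem_bot] at hvx
    exact CfsgLib.Invol.ne_one_of_orderOf_two hv hvx
  obtain ⟨v', hv'x, hv', k, hk, hvk⟩ := exists_invol hD hx hx1
  have hvv : v = v' := CfsgLib.Invol.mem_zpowers_unique_involution hvx hv'x hv hv'
  subst hvv
  set x' := y * x * y⁻¹ with hx'
  have hx'D : x' ∈ D := mul_inv_mem_conj hyN hx
  set v' := y * v * y⁻¹ with hv''
  have hv'2 : orderOf v' = 2 := (CfsgLib.Invol.orderOf_conj_eq y v).trans hv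
  have hvD : v ∈ D := zpowers_le.2 hx hvx
  have hne : v' ≠ v := fun e => CfsgLib.Invol.ne_one_of_orderOf_two hv
    (fpf hG hD hyN hy hyC hvD (mul_inv_eq_iff_eq_mul.1 e))
  have hv'x : v' ∈ zpowers x' := by
    obtain ⟨j, rfl⟩ := hvx
    exact ⟨j, by simp [hx', hv'']⟩
  have hv'c : ∀ d ∈ D, v' * d = d * v' := by
    intro d hd
    have h := hvc _ ((mem_normalizer_iff.1 (inv_mem hyN) d).1 hd)
    calc v' * d = y * (v * (y⁻¹ * d * y⁻¹⁻¹)) * y⁻¹ := by rw [hv'']; group
      _ = y * ((y⁻¹ * d * y⁻¹⁻¹) * v) * y⁻¹ := by rw [h]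
      _ = d * v' := by rw [hv'']; group
  have hnorm : ∀ {w z : G}, orderOf w = 2 → w ∈ zpowers z → (∀ d ∈ D, w * d = d * w) → ∀ d ∈ D,
      d * z * d⁻¹ ∈ zpowers z := by
    intro w z hw hwz hwc d hd
    have : d ∈ normalizer (zpowers z : Set G) := by
      rw [← cent_invol_eq hG hwz hw]
      exact mem_centralizer_singleton_iff.2 (hwc d hd).symm
    exact (mem_normalizer_iff.1 this z).1 (mem_zpowers z)
  have hdisj : ∀ a, a ∈ zpowers x → a ∈ zpowers x' → a = 1 := by
    intro a ha ha'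
    by_contra ha1
    obtain ⟨u, hua, hu, -⟩ := exists_invol hD (zpowers_le.2 hx ha) ha1
    have e1 := CfsgLib.Invol.mem_zpowers_unique_involution (zpowers_le.2 ha hua) hvx hu hv
    have e2 := CfsgLib.Invol.mem_zpowers_unique_involution (zpowers_le.2 ha' hua) hv'x hu hv'2
    exact hne (e2.symm.trans e1)
  -- `x` and `x'` commute
  have hcomm : Commute x x' := by
    have h1 : x * x' * x⁻¹ * x'⁻¹ ∈ zpowers x := by
      rw [show x * x' * x⁻¹ * x'⁻¹ = x * (x' * x⁻¹ * x'⁻¹) by group]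
      refine mul_mem (mem_zpowers x) ?_
      rw [show x' * x⁻¹ * x'⁻¹ = (x' * x * x'⁻¹)⁻¹ by group]
      exact inv_mem (hnorm hv hvx hvc x' hx'D)
    have h2 : x * x' * x⁻¹ * x'⁻¹ ∈ zpowers x' :=
      mul_mem (hnorm hv'2 hv'x hv'c x hx) (inv_mem (mem_zpowers x'))
    exact commutatorElement_eq_one_iff_mul_comm.1 (hdisj _ h1 h2)
  have hox' : orderOf x' = 2 ^ (k + 1) := (CfsgLib.Invol.orderOf_conj_eq y x).trans hk
  -- the product
  set p := x * x' with hp
  have hpv : p ^ 2 ^ k = v * v' := by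
    rw [hp, hcomm.mul_pow, hvk, hv'', hvk, hx', conj_pow]
  have hvv' : orderOf (v * v') = 2 := by
    refine CfsgLib.Invol.orderOf_eq_two_iff'.2 ⟨fun e => hne ?_, ?_⟩
    · exact (inv_eq_of_mul_eq_one_right e).symm.trans (CfsgLib.Invol.inv_eq_of_orderOf_two hv)
    · have hc : Commute v v' := hvc v' (zpowers_le.2 hx'D hv'x)
      calc v * v' * (v * v') = v * (v' * v) * v' := by group
        _ = v * (v * v') * v' := by rw [hc.eq]
        _ = (v * v) * (v' * v') := by group
        _ = 1 := by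
          rw [CfsgLib.Invol.mul_self_of_orderOf_two hv, CfsgLib.Invol.mul_self_of_orderOf_two hv'2, one_mul]
  have hvv'c : ∀ d ∈ D, v * v' * d = d * (v * v') := fun d hd => by
    rw [mul_assoc, hv'c d hd, ← mul_assoc, hvc d hd, mul_assoc]
  -- conjugation by `d` induces the same power on `x` and on `x'`
  have hsame : ∀ d ∈ D, ∀ i : ℤ, d * x * d⁻¹ = x ^ i → d * x' * d⁻¹ = x' ^ i := by
    intro d hd i hi
    obtain ⟨j, hj⟩ := hnorm hv'2 hv'x hv'c d hd
    simp only at hj
    obtain ⟨l, hl⟩ := hnorm hvv' (hpv ▸ pow_mem (mem_zpowers p) _) hvv'c d hd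
    simp only at hl
    have e : x ^ l * x' ^ l = x ^ i * x' ^ j := by
      rw [← hcomm.mul_zpow, ← hp, hl, hp, hj, ← hi]; group
    have e2 : x ^ (-i + l) = x' ^ (j + -l) := by
      rw [zpow_add, zpow_add]
      calc x ^ (-i) * x ^ l = x ^ (-i) * (x ^ l * x' ^ l) * x' ^ (-l) := by group
        _ = x ^ (-i) * (x ^ i * x' ^ j) * x' ^ (-l) := by rw [e]
        _ = x' ^ j * x' ^ (-l) := by group
    have h1 : x ^ (-i + l) = 1 := hdisj _ ⟨_, rfl⟩ ⟨j + -l, e2.symm⟩
    have hd1 := orderOf_dvd_iff_zpow_eq_one.2 h1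
    have hd2 := orderOf_dvd_iff_zpow_eq_one.2 (e2.symm.trans h1)
    rw [hk] at hd1
    rw [hox'] at hd2
    rw [← hj, ← orderOf_dvd_sub_iff_zpow_eq_zpow, hox']
    have : j - i = (j + -l) + (-i + l) := by ring
    rw [this]
    exact dvd_add hd2 hd1
  -- the centraliser of `x` in `D` is invariant under `y`
  set N : Subgroup G := D ⊓ centralizer ({x} : Set G)
  have hNy : ∀ n ∈ N, y * n * y⁻¹ ∈ N := by
    rintro n ⟨hn, hnx⟩
    have hnx' : n * x' = x' * n := by
      have := hsame n hn 1 (by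
        rw [zpow_one, mul_inv_eq_iff_eq_mul]
        exact mem_centralizer_singleton_iff.1 hnx)
      rwa [zpow_one, mul_inv_eq_iff_eq_mul] at this
    refine ⟨mul_inv_mem_conj hyN hn, mem_centralizer_singleton_iff.2 ?_⟩
    -- `y n y⁻¹` centralises `x'`; hence it centralises `x`
    have hyn : (y * n * y⁻¹) * x' * (y * n * y⁻¹)⁻¹ = x' := by
      rw [hx', show (y * n * y⁻¹) * (y * x * y⁻¹) * (y * n * y⁻¹)⁻¹ = y * (n * x * n⁻¹) * y⁻¹ by group,
        mem_centralizer_singleton_iff.1 hnx, mul_inv_cancel_right]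
    obtain ⟨i, hi⟩ := hnorm hv hvx hvc _ (mul_inv_mem_conj hyN hn)
    simp only at hi
    have e := hsame _ (mul_inv_mem_conj hyN hn) i hi.symm
    rw [hyn] at e
    have hi1 : x ^ i = x ^ (1 : ℤ) := by
      rw [← orderOf_dvd_sub_iff_zpow_eq_zpow, hk, ← hox', orderOf_dvd_sub_iff_zpow_eq_zpow, zpow_one]
      exact e.symm
    rw [zpow_one] at hi1
    exact mul_inv_eq_iff_eq_mul.1 (hi.symm.trans hi1)
  intro d hd
  have hfix : y * d * y⁻¹ * d⁻¹ ∈ N := by
    have hm : y * d * y⁻¹ * d⁻¹ ∈ D := mul_mem (mul_inv_mem_conj hyN hd) (inv_mem hd)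
    refine ⟨hm, mem_centralizer_singleton_iff.2 ?_⟩
    obtain ⟨i, hi⟩ := hnorm hv hvx hvc d hd
    simp only at hi
    have ei := hsame d hd i hi.symm
    obtain ⟨j, hj⟩ := hnorm hv hvx hvc _ hm
    simp only at hj
    have ej := hsame _ hm j hj.symm
    have hcalc : (y * d * y⁻¹ * d⁻¹) * x' ^ i * (y * d * y⁻¹ * d⁻¹)⁻¹ = x' ^ i := by
      calc (y * d * y⁻¹ * d⁻¹) * x' ^ i * (y * d * y⁻¹ * d⁻¹)⁻¹
          = (y * d * y⁻¹ * d⁻¹) * (d * x' * d⁻¹) * (y * d * y⁻¹ * d⁻¹)⁻¹ := by rw [ei]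
        _ = y * (d * x * d⁻¹) * y⁻¹ := by rw [hx']; group
        _ = x' ^ i := by rw [← hi, hx', conj_zpow]
    rw [← conj_zpow, ej, ← zpow_mul, ← orderOf_dvd_sub_iff_zpow_eq_zpow, hox'] at hcalc
    have : x ^ (j * i) = x ^ i := by rw [← orderOf_dvd_sub_iff_zpow_eq_zpow, hk]; exact hcalc
    have hdx : x = d⁻¹ * x ^ i * d := by rw [hi]; group
    set m := y * d * y⁻¹ * d⁻¹
    have hmi : m * x ^ i * m⁻¹ = x ^ i := by rw [← conj_zpow, ← hj, ← zpow_mul, this]
    -- `x` is a power of `x ^ i`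
    have hgen : zpowers (x ^ i) = zpowers x := by
      refine eq_of_le_of_card_ge (zpowers_le.2 ⟨i, rfl⟩) (le_of_eq ?_)
      rw [Nat.card_zpowers, Nat.card_zpowers, hi, CfsgLib.Invol.orderOf_conj_eq]
    obtain ⟨l, hl⟩ := mem_zpowers_iff.1 (hgen.symm ▸ mem_zpowers x)
    rw [← hl]
    exact (Commute.zpow_right (mul_inv_eq_iff_eq_mul.1 hmi) l).eq
  have hco : (Nat.card (zpowers y)).Coprime (Nat.card D) := by
    obtain ⟨n, hn⟩ := IsPGroup.iff_card.1 hD
    rw [Nat.card_zpowers, hn]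
    exact Nat.Coprime.pow_right n (Nat.coprime_two_right.2 hy)
  have hND : D ≤ normalizer (N : Set G) := by
    intro g hg
    refine mem_normalizer_iff.2 fun n => ?_
    have key : ∀ g ∈ D, ∀ n ∈ N, g * n * g⁻¹ ∈ N := by
      rintro g hg n ⟨hn, hnx⟩
      refine ⟨D.mul_mem (D.mul_mem hg hn) (D.inv_mem hg), mem_centralizer_singleton_iff.2 ?_⟩
      obtain ⟨i, hi⟩ := hnorm hv hvx hvc _ (inv_mem hg)
      simp only [inv_inv] at hi
      have hc : n * x ^ i = x ^ i * n := (Commute.zpow_right (mem_centralizer_singleton_iff.1 hnx) i).eq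
      calc g * n * g⁻¹ * x = g * (n * (g⁻¹ * x * g)) * g⁻¹ := by group
        _ = g * ((g⁻¹ * x * g) * n) * g⁻¹ := by rw [← hi, hc]
        _ = x * (g * n * g⁻¹) := by group
    exact ⟨key g hg n, fun h => by simpa [mul_assoc] using key g⁻¹ (inv_mem hg) _ h⟩
  have hNA : zpowers y ≤ normalizer (N : Set G) :=
    zpowers_le.2 (mem_normalizer_iff.2 fun n => ⟨hNy n, fun hn => by
      have hy' : y⁻¹ = y ^ (orderOf y - 1) :=
        inv_eq_of_mul_eq_one_right (by rw [← pow_succ', Nat.sub_add_cancel (orderOf_pos y), pow_orderOf_eq_one])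
      have key : ∀ j : ℕ, ∀ m ∈ N, y ^ j * m * (y ^ j)⁻¹ ∈ N := by
        intro j
        induction j with
        | zero => intro m hm; simpa using hm
        | succ j ih =>
          intro m hm
          have := hNy _ (ih m hm)
          rw [pow_succ']
          convert this using 1
          group
      have := key (orderOf y - 1) _ hn
      rw [← hy'] at this
      simpa [mul_assoc] using this⟩)
  obtain ⟨c, ⟨hcD, hcC⟩, hc⟩ := Cfsg.Agent.S0022.result (zpowers y) D (zpowers_le.2 hyN) hco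
    (Or.inl (Group.isSolvable_of_comm fun a b => IsCyclic.commGroup.mul_comm a b))
    N inf_le_left hND hNA d hd (by
      intro a ha
      obtain ⟨j, rfl⟩ := (Submonoid.mem_powers_iff _ _).1 (mem_powers_iff_mem_zpowers.2 ha)
      induction j with
      | zero => simp
      | succ j ih =>
        have hn := hNA (mem_zpowers y)
        have h1 := (mem_normalizer_iff.1 hn _).1 (ih (pow_mem (mem_zpowers y) j))
        have h2 := mul_mem h1 hfix
        convert h2 using 1
        rw [pow_succ']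
        group)
  have hc1 : c = 1 := fpf hG hD hyN hy hyC hcD (mem_centralizer_iff.1 hcC y (mem_zpowers y))
  rw [hc1, mul_one, inv_mem_iff] at hc
  exact (mem_centralizer_singleton_iff.1 hc.2).symm

/-- A 2-group with a fixed-point-free automorphism of odd order is abelian. -/
theorem comm_of_fpf (hG : CycNorm G) {D : Subgroup G} (hD : IsPGroup 2 D) {y : G}
    (hyN : y ∈ normalizer (D : Set G)) (hy : Odd (orderOf y)) (hyC : y ∉ centralizer (D : Set G)) :
    ∀ a ∈ D, ∀ b ∈ D, a * b = b * a := by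
  haveI : Fact (Nat.Prime 2) := ⟨Nat.prime_two⟩
  by_contra hne
  haveI : Nontrivial (↥D ⧸ center ↥D) := QuotientGroup.nontrivial_iff.2 fun h => hne fun a ha b hb =>
    (congrArg Subtype.val (mem_center_iff.1 (h ▸ mem_top (⟨a, ha⟩ : ↥D)) ⟨b, hb⟩)).symm
  have hQ : IsPGroup 2 (↥D ⧸ center ↥D) := hD.to_quotient _
  haveI := hQ.center_nontrivial
  obtain ⟨n, hn0, hn⟩ := ((hQ.to_subgroup (center (↥D ⧸ center ↥D))).nontrivial_iff_card).1 inferInstance
  obtain ⟨gq, hgq⟩ := exists_prime_orderOf_dvd_card' (G := center (↥D ⧸ center ↥D)) 2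
    (hn ▸ dvd_pow_self 2 hn0.ne')
  rw [← orderOf_coe] at hgq
  obtain ⟨g, hg⟩ := QuotientGroup.mk'_surjective (center ↥D) (gq : ↥D ⧸ center ↥D)
  rw [QuotientGroup.mk'_apply] at hg
  rw [← hg] at hgq
  have hgZ : g ∉ center ↥D := fun h => by
    rw [(QuotientGroup.eq_one_iff g).2 h, orderOf_one] at hgq
    omega
  have hg2 : g * g ∈ center ↥D := by
    rw [← QuotientGroup.eq_one_iff, QuotientGroup.mk_mul, CfsgLib.Invol.mul_self_of_orderOf_two hgq]
  obtain ⟨h, hgh⟩ : ∃ h : ↥D, g * h ≠ h * g := by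
    by_contra hno
    push Not at hno
    exact hgZ (mem_center_iff.2 fun h => (hno h).symm)
  set c := g * h * g⁻¹ * h⁻¹ with hc
  have hcZ : c ∈ center ↥D := by
    rw [← QuotientGroup.eq_one_iff, hc]
    simp only [QuotientGroup.mk_mul, QuotientGroup.mk_inv, hg]
    rw [← mem_center_iff.1 gq.2 (h : ↥D ⧸ center ↥D), mul_inv_cancel_right, mul_inv_cancel]
  have hcc : ∀ z : ↥D, Commute c z := fun z => (mem_center_iff.1 hcZ z).symm
  have hc2 : c * c = 1 := by
    have hcg : g * c * g⁻¹ = c := by rw [← (hcc g).eq, mul_inv_cancel_right]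
    calc c * c = (g * c * g⁻¹) * c := by rw [hcg]
      _ = (g * g) * h * (g * g)⁻¹ * h⁻¹ := by rw [hc]; group
      _ = 1 := by rw [← mem_center_iff.1 hg2 h, mul_inv_cancel_right, mul_inv_cancel]
  have hc1 : c ≠ 1 := fun e => hgh (by
    rw [hc, mul_inv_eq_one, mul_inv_eq_iff_eq_mul] at e
    exact e)
  have central : ∀ x : ↥D, ∀ v : ↥D, v ∈ zpowers x → orderOf v = 2 → v ∈ center ↥D → x ∈ center ↥D := by
    intro x v hvx hv hvc
    refine mem_center_iff.2 fun d => Subtype.ext ?_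
    refine (central_of_central_invol hG hD hyN hy hyC x.2 (v := (v : G)) ?_ ((orderOf_coe v).trans hv)
      (fun d hd => (congrArg Subtype.val (mem_center_iff.1 hvc ⟨d, hd⟩)).symm) d d.2).symm
    obtain ⟨k, rfl⟩ := hvx
    exact ⟨k, by simp⟩
  by_cases hh : h * h = 1
  · -- `h * g` squares to a central involution when `g` is one
    by_cases hgg : g * g = 1
    · have hsq : (g * h) * (g * h) = c := by
        rw [hc, inv_eq_of_mul_eq_one_right hgg, inv_eq_of_mul_eq_one_right hh]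
        group
      have := central (g * h) c (hsq ▸ mul_mem (mem_zpowers _) (mem_zpowers _))
        (CfsgLib.Invol.orderOf_eq_two_iff'.2 ⟨hc1, hc2⟩) hcZ
      refine hgh ?_
      have e := mem_center_iff.1 this g
      rw [← mul_assoc] at e
      calc g * h = g⁻¹ * (g * g * h) := by group
        _ = g⁻¹ * (g * h * g) := by rw [e]
        _ = h * g := by group
    · obtain ⟨v, hvg, hv, -⟩ := exists_invol hD (mul_mem g.2 g.2) (fun e => hgg (Subtype.ext e))
      obtain ⟨v', rfl⟩ : ∃ v' : ↥D, (v' : G) = v := ⟨⟨v, zpowers_le.2 (mul_mem g.2 g.2) hvg⟩, rfl⟩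
      have hv'g : v' ∈ zpowers (g * g) := by
        obtain ⟨k, hk⟩ := hvg
        exact ⟨k, Subtype.ext (by simpa using hk)⟩
      exact hgZ (central g v' (zpowers_le.2 (mul_mem (mem_zpowers g) (mem_zpowers g)) hv'g)
        ((orderOf_coe v').symm.trans hv) (zpowers_le.2 hg2 hv'g))
  · obtain ⟨v, hvh, hv, -⟩ := exists_invol hD (mul_mem h.2 h.2) (fun e => hh (Subtype.ext e))
    obtain ⟨v', rfl⟩ : ∃ v' : ↥D, (v' : G) = v := ⟨⟨v, zpowers_le.2 (mul_mem h.2 h.2) hvh⟩, rfl⟩
    have hvh' : v' ∈ zpowers (h * h) := by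
      obtain ⟨k, hk⟩ := hvh
      exact ⟨k, Subtype.ext (by simpa using hk)⟩
    have hghh : Commute g (h * h) := by
      show g * (h * h) = h * h * g
      have e : g * h = c * h * g := by rw [hc]; group
      calc g * (h * h) = c * h * g * h := by rw [← mul_assoc, e]
        _ = c * h * (c * h * g) := by rw [mul_assoc (c * h) g h, e]
        _ = c * (h * c) * (h * g) := by group
        _ = c * (c * h) * (h * g) := by rw [(hcc h).eq]
        _ = (c * c) * (h * h * g) := by group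
        _ = h * h * g := by rw [hc2, one_mul]
    have hgv : Commute g v' := by
      obtain ⟨k, rfl⟩ := hvh'
      exact hghh.zpow_right k
    have hvh2 : (v' : G) ∈ zpowers (h : G) :=
      zpowers_le.2 (mul_mem (mem_zpowers _) (mem_zpowers _)) hvh
    have hgN : (g : G) ∈ normalizer (zpowers (h : G) : Set G) := by
      rw [← cent_invol_eq hG hvh2 hv]
      exact mem_centralizer_singleton_iff.2 (congrArg Subtype.val hgv.eq)
    have hcm : (c : G) ∈ zpowers (h : G) := by
      rw [hc]; push_cast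
      exact mul_mem ((mem_normalizer_iff.1 hgN _).1 (mem_zpowers _)) (inv_mem (mem_zpowers _))
    have hcv : (c : G) = v' := CfsgLib.Invol.mem_zpowers_unique_involution hcm hvh2
      ((orderOf_coe c).trans (CfsgLib.Invol.orderOf_eq_two_iff'.2 ⟨hc1, hc2⟩)) hv
    have hvc : v' ∈ center ↥D := Subtype.ext hcv ▸ hcZ
    have := central h v' (zpowers_le.2 (mul_mem (mem_zpowers h) (mem_zpowers h)) hvh')
      ((orderOf_coe v').symm.trans hv) hvc
    exact hgh (mem_center_iff.1 this g)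

end CfsgLib.Recognition.CycNorm
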