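import Cfsg.Agent.Lib.Recognition.CycNorm.NoEight
import Cfsg.Agent.S0508
import Cfsg.Agent.S0251
import Cfsg.Agent.S0252
import Cfsg.Agent.S0253
import Cfsg.Agent.S0144

/-!
# The simple case
-/

set_option autoImplicit false
set_option linter.dupNamespace false
set_option linter.style.haveILetI false
set_option linter.unusedSectionVars false

namespace CfsgLib.Recognition.CycNorm

open Subgroup
open CfsgLib.PGroup.CAI (TwoGood CentAbelian)

variable {G : Type*} [Group G] [Finite G]

theorem twoGood_of_moved (hG : CycNorm G) (hS : NoSolvNormal G) (S : Sylow 2 G) (hM : Moved (S : Subgroup G)) :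
    TwoGood G := by
  haveI : Fact (Nat.Prime 2) := ⟨Nat.prime_two⟩
  obtain ⟨hS2, y, hyN, hy, hyC⟩ := hM
  obtain ⟨x, hx, hx1⟩ : ∃ x ∈ (S : Subgroup G), x ≠ 1 := by
    by_contra hno
    push Not at hno
    exact hyC (mem_centralizer_iff.2 fun d hd => by rw [hno d hd, one_mul, mul_one])
  refine ⟨fun T hT => ?_, fun T hT => ?_⟩
  · haveI : IsCyclic (S : Subgroup G) := (T.equiv S).isCyclic.1 hT
    obtain ⟨g, hg⟩ := IsCyclic.exists_generator (α := (S : Subgroup G))
    have hmem : ∀ z ∈ (S : Subgroup G), z ∈ zpowers (g : G) := fun z hz => by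
      obtain ⟨k, hk⟩ := hg ⟨z, hz⟩
      exact ⟨k, by simpa using congrArg Subtype.val hk⟩
    obtain ⟨v, hvx, hv, -⟩ := exists_invol hS2 hx hx1
    have hvS := zpowers_le.2 hx hvx
    exact CfsgLib.Invol.ne_one_of_orderOf_two hv (fpf hG hS2 hyN hy hyC hvS (mul_inv_eq_iff_eq_mul.1
      (CfsgLib.Invol.mem_zpowers_unique_involution (hmem _ (mul_inv_mem_conj hyN hvS)) (hmem v hvS)
        ((CfsgLib.Invol.orderOf_conj_eq y v).trans hv) hv)))
  · haveI := T.2.isNilpotent
    have hT1 := hS _ hT inferInstance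
    have h1 := Nat.card_congr (T.equiv S).toEquiv
    rw [hT1, card_bot] at h1
    haveI : Subsingleton (S : Subgroup G) := (Nat.card_eq_one_iff_unique.1 h1.symm).1
    exact hx1 (congrArg Subtype.val (Subsingleton.elim (⟨x, hx⟩ : (S : Subgroup G)) 1))

/-- Abelian centralisers, or dihedral Sylow 2-subgroups. -/
theorem cases_main [Nontrivial G] (hG : CycNorm G) (hS : NoSolvNormal G) :
    (TwoGood G ∧ CentAbelian G) ∨ ∃ (S : Sylow 2 G) (n : ℕ) (r s : G),
      DihData (S : Subgroup G) n r s ∧ (n = 2 → Moved (S : Subgroup G)) := by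
  obtain ⟨S, hM | ⟨n, r, s, hd, hn⟩⟩ := sylow_cases hG hS
  · rcases same_or_four hG S hM with h | ⟨r, s, hd⟩
    · exact Or.inl ⟨twoGood_of_moved hG hS S hM, centAbelian_of_same hG S hM h⟩
    · exact Or.inr ⟨S, 2, r, s, hd, fun _ => hM⟩
  · exact Or.inr ⟨S, n, r, s, hd, fun e => by omega⟩

theorem center_eq_bot_of_simple [IsSimpleGroup G] (hnc : ¬ IsMulCommutative G) : center G = ⊥ :=
  (inferInstance : (center G).Normal).eq_bot_or_eq_top.resolve_right fun h =>
    hnc ⟨⟨fun a b => (mem_center_iff.1 (h ▸ mem_top b) a)⟩⟩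

/-- The characteristic two target with small rank is `PSL₂(5)`. -/
theorem psl_five_of_cai [IsSimpleGroup G] (hnc : ¬ IsMulCommutative G) (hna : TwoGood G) (hC : CentAbelian G)
    (h8 : NoEight G) : ∃ (F : Type) (_ : Field F) (_ : Fintype F), Odd (Fintype.card F) ∧ 3 < Fintype.card F ∧
      Nonempty (G ≃* Matrix.ProjectiveSpecialLinearGroup (Fin 2) F) := by
  obtain ⟨F, iF, iF', π, hchar, h4, hsurj, hker, -⟩ :=
    CfsgLib.PGroup.CAI.splitLinear (Nat.card G) G rfl hna hC
  rw [center_eq_bot_of_simple hnc, MonoidHom.ker_eq_bot_iff] at hker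
  let e := MulEquiv.ofBijective π ⟨hker, hsurj⟩
  have hF4 : Fintype.card F = 4 :=
    card_field_of_noEight h4 (h8.comap e.symm.toMonoidHom e.symm.injective)
  obtain ⟨e4⟩ := Cfsg.Agent.S0252.result (F := F) hF4
  haveI : Fact (Nat.Prime 5) := ⟨by norm_num⟩
  obtain ⟨e5⟩ := Cfsg.Agent.S0253.result (F := ZMod 5) (ZMod.card 5)
  exact ⟨ZMod 5, inferInstance, inferInstance, by rw [ZMod.card]; decide, by rw [ZMod.card]; norm_num,
    ⟨(e.trans e4).trans e5.symm⟩⟩

/-- A simple group with these normalisers and small 2-rank is `PSL₂(q)`, `q` odd. -/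
theorem psl_of_simple [IsSimpleGroup G] (hG : CycNorm G) (hnc : ¬ IsMulCommutative G) (h8 : NoEight G) :
    ∃ (F : Type) (_ : Field F) (_ : Fintype F), Odd (Fintype.card F) ∧ 3 < Fintype.card F ∧
      Nonempty (G ≃* Matrix.ProjectiveSpecialLinearGroup (Fin 2) F) := by
  haveI : Fact (Nat.Prime 2) := ⟨Nat.prime_two⟩
  have hnsol : ¬ Group.IsSolvable G := fun h =>
    hnc ⟨⟨IsSimpleGroup.comm_iff_isSolvable.2 h⟩⟩
  have hS : NoSolvNormal G := fun N hN hs => hN.eq_bot_or_eq_top.resolve_right fun h => by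
    subst h
    exact hnsol (Group.isSolvable_of_surjective (f := (topEquiv : (⊤ : Subgroup G) ≃* G).toMonoidHom)
      (topEquiv : (⊤ : Subgroup G) ≃* G).surjective)
  rcases cases_main hG hS with ⟨hna, hC⟩ | ⟨S, n, r, s, hd, hM⟩
  · exact psl_five_of_cai hnc hna hC h8
  obtain ⟨t, htr, ht, htc⟩ := hd.exists_t S.2
  set O := oddPart t with hOdef
  obtain ⟨hn, hr, hs, hor, hss, hsr, hns, hcard⟩ := id hd
  have hSC : ∀ x ∈ (S : Subgroup G), x ∈ centralizer ({t} : Set G) := fun x hx =>
    mem_centralizer_singleton_iff.2 (htc x hx)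
  have hrO : zpowers r ≤ centralizer (O : Set G) := by
    refine Subgroup.zpowers_le.2 (mem_centralizer_iff.2 fun a ha => ?_)
    have haN : a ∈ normalizer (zpowers r : Set G) := cent_invol_eq hG htr ht ▸ oddPart_le t ha
    have h1 : r * a * r⁻¹ * a⁻¹ ∈ zpowers r := by
      rw [show r * a * r⁻¹ * a⁻¹ = r * (a * r⁻¹ * a⁻¹) by group]
      exact mul_mem (mem_zpowers r) ((mem_normalizer_iff.1 haN _).1 (inv_mem (mem_zpowers r)))
    have h2 : r * a * r⁻¹ * a⁻¹ ∈ oddPart t := mul_mem (oddPart_normal (hSC r hr) ha) (inv_mem ha)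
    exact (mul_inv_eq_iff_eq_mul.1 (mul_inv_eq_one.1
      (CfsgLib.Invol.eq_one_of_odd_of_mem S.2 (hd.zpowers_le h1) (odd_of_mem_oddPart h2)))).symm
  by_cases hcase : O ≠ ⊥ ∧ s ∈ centralizer (O : Set G)
  · -- then all involutions of `S` have the centraliser of `t`
    obtain ⟨hO, hsO⟩ := hcase
    obtain ⟨a, ha, ha1⟩ := (bot_or_exists_ne_one O).resolve_left hO
    have hall : ∀ x ∈ (S : Subgroup G), x * a = a * x := by
      intro x hx
      have hxC : x ∈ centralizer (O : Set G) := by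
        rcases hd.cases hx with h | h
        · exact hrO h
        · have := mul_mem hsO (hrO h)
          rwa [← mul_assoc, hss, one_mul] at this
      exact (mem_centralizer_iff.1 hxC a ha).symm
    have hsame : ∀ w ∈ (S : Subgroup G), orderOf w = 2 →
        centralizer ({w} : Set G) = centralizer ({t} : Set G) := fun w hw hw2 =>
      (cent_eq_iff hG ht hw2 ha ha1).2 (hall w hw)
    have hn2 : n = 2 := by
      by_contra hne
      have hso : orderOf s = 2 :=
        CfsgLib.Invol.orderOf_eq_two_iff'.2 ⟨fun e => hns (e ▸ one_mem _), hss⟩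
      have hsr1 : s * r ∉ zpowers r := fun h => hns (by
        have := mul_mem h (inv_mem (mem_zpowers r))
        rwa [mul_inv_cancel_right] at this)
      have hsro : orderOf (s * r) = 2 := CfsgLib.Invol.orderOf_eq_two_iff'.2
        ⟨fun e => hsr1 (e ▸ one_mem _), hd.sq_of_not_mem (mul_mem hs hr) hsr1⟩
      have h1 : s * r ∈ centralizer ({s} : Set G) :=
        ((hsame s hs hso).trans (hsame _ (mul_mem hs hr) hsro).symm) ▸ mem_centralizer_singleton_iff.2 rfl
      rw [mem_centralizer_singleton_iff, hsr, ← mul_assoc, hss, one_mul] at h1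
      have h2 : r ^ 2 = 1 := by
        rw [pow_two]
        nth_rewrite 1 [← h1]
        exact inv_mul_cancel r
      have := Nat.le_of_dvd two_pos (hor ▸ orderOf_dvd_of_pow_eq_one h2)
      omega
    exact psl_five_of_cai hnc (twoGood_of_moved hG hS S (hM hn2))
      (centAbelian_of_same hG S (hM hn2) fun u hu w hw hu2 hw2 => (hsame u hu hu2).trans (hsame w hw hw2).symm) h8
  rw [not_and] at hcase
  have hK : O ≠ ⊥ → (S : Subgroup G) ⊓ centralizer (O : Set G) = zpowers r := by
    intro hO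
    refine le_antisymm (fun x ⟨hx, hxC⟩ => ?_) (le_inf hd.zpowers_le hrO)
    refine (hd.cases hx).resolve_right fun h => hcase hO ?_
    have := mul_mem (hrO h) (inv_mem hxC)
    rwa [mul_inv_cancel_right] at this
  have hOab : ∀ a ∈ O, ∀ b ∈ O, a * b = b * a := fun a ha b hb => oddPart_comm hG ht ha hb
  have hb : ∀ x ∈ (S : Subgroup G), x ∉ centralizer (O : Set G) → ∀ y ∈ O, x * y * x⁻¹ = y⁻¹ := by
    intro x hx hxC y hy
    have hxr : x ∉ zpowers r := fun h => hxC (hrO h)
    have hxx := hd.sq_of_not_mem hx hxr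
    have hxo : orderOf x = 2 := CfsgLib.Invol.orderOf_eq_two_iff'.2 ⟨fun e => hxr (e ▸ one_mem _), hxx⟩
    have hy' : x * y * x⁻¹ ∈ O := oddPart_normal (hSC x hx) hy
    set c := y * (x * y * x⁻¹) with hc
    have hcO : c ∈ O := mul_mem hy hy'
    have hfix : x * c = c * x := by
      refine mul_inv_eq_iff_eq_mul.1 ?_
      calc x * c * x⁻¹ = (x * y * x⁻¹) * ((x * x) * y * (x * x)⁻¹) := by rw [hc]; group
        _ = c := by rw [hxx, hc, hOab y hy _ hy']; group
    have hc1 : c = 1 := by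
      by_contra hc1
      refine hxC (mem_centralizer_iff.2 fun b hb => ?_)
      have e := (cent_eq_iff hG ht hxo hcO hc1).2 hfix
      exact mem_centralizer_singleton_iff.1 (e.symm ▸ oddPart_le t hb : b ∈ centralizer ({x} : Set G))
    exact (inv_eq_of_mul_eq_one_right hc1).symm
  have hc : ∀ Y : Subgroup G, Y ≤ O → Y ≠ ⊥ → normalizer (Y : Set G) ≤ centralizer ({t} : Set G) := by
    intro Y hYO hY g hg
    obtain ⟨a, ha, ha1⟩ := (bot_or_exists_ne_one Y).resolve_left hY
    have hbY : g * a * g⁻¹ ∈ Y := (mem_normalizer_iff.1 hg a).1 ha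
    have hat := mem_centralizer_singleton_iff.1 (oddPart_le t (hYO ha))
    set w := g * t * g⁻¹ with hw
    have hwo : orderOf w = 2 := (CfsgLib.Invol.orderOf_conj_eq g t).trans ht
    have hwb : w * (g * a * g⁻¹) = g * a * g⁻¹ * w := by
      calc w * (g * a * g⁻¹) = g * (t * a) * g⁻¹ := by rw [hw]; group
        _ = g * (a * t) * g⁻¹ := by rw [hat]
        _ = g * a * g⁻¹ * w := by rw [hw]; group
    have e : centralizer ({w} : Set G) = centralizer ({t} : Set G) :=
      (cent_eq_iff hG ht hwo (hYO hbY) (fun h => ha1 (conj_eq_one_iff.1 h))).2 hwb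
    have hwS : ∀ x ∈ (S : Subgroup G), x * w = w * x := fun x hx =>
      mem_centralizer_singleton_iff.1 (e.symm ▸ hSC x hx : x ∈ centralizer ({w} : Set G))
    have hwmem : w ∈ (S : Subgroup G) := by
      have hpw : IsPGroup 2 (zpowers w) := IsPGroup.of_card (n := 1) (by rw [Nat.card_zpowers, hwo, pow_one])
      have hle : zpowers w ≤ normalizer ((S : Subgroup G) : Set G) :=
        Subgroup.zpowers_le.2 (Subgroup.centralizer_le_normalizer _
          (mem_centralizer_iff.2 fun x hx => hwS x hx))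
      exact (S.is_maximal' (hpw.to_sup_of_normal_right' S.2 hle) le_sup_right).le
        (le_sup_left (b := (S : Subgroup G)) (mem_zpowers w))
    have hwO : w ∈ centralizer (O : Set G) := mem_centralizer_iff.2 fun b hb =>
      mem_centralizer_singleton_iff.1 (e.symm ▸ oddPart_le t hb : b ∈ centralizer ({w} : Set G))
    have hOne : O ≠ ⊥ := fun h => hY (le_bot_iff.1 (h ▸ hYO))
    have hwt : w = t :=
      CfsgLib.Invol.mem_zpowers_unique_involution (hK hOne ▸ ⟨hwmem, hwO⟩) htr hwo ht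
    exact mem_centralizer_singleton_iff.2 (mul_inv_eq_iff_eq_mul.1 hwt)
  obtain ⟨F, iF, iF', hodd, ⟨e⟩⟩ := Cfsg.Agent.S0508.result S n hn hd.equiv t ht
    (hd.zpowers_le htr) htc O rfl (fun hO => by
      rw [hK hO]
      refine ⟨inferInstance, ?_⟩
      have h1 := ((zpowers r).subgroupOf (S : Subgroup G)).index_mul_card
      rw [Nat.card_congr (subgroupOfEquivOfLe hd.zpowers_le).toEquiv, Nat.card_zpowers, hor, hcard] at h1
      exact Nat.eq_of_mul_eq_mul_right (by omega) h1) hb hc
  refine ⟨F, iF, iF', hodd, ?_, ⟨e⟩⟩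
  by_contra h3
  have hcF : Fintype.card F = 3 := by
    have := Fintype.one_lt_card (α := F)
    obtain ⟨j, hj⟩ := hodd
    omega
  obtain ⟨e3⟩ := Cfsg.Agent.S0251.result (F := F) hcF
  have hcard' : Nat.card G = 2 ^ 2 * 3 ^ 1 := by
    rw [Nat.card_congr (e.trans e3).toEquiv, nat_card_alternatingGroup]
    simp [Nat.factorial]
  exact hnsol (Cfsg.Agent.S0144.result 2 3 2 1 Nat.prime_two Nat.prime_three hcard')

end CfsgLib.Recognition.CycNorm
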