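import Cfsg.Agent.Lib.Recognition.CycNorm.Four
import Cfsg.Agent.Lib.Transfer.MaximalClass
import Cfsg.Agent.Lib.Invol.Counting

/-!
# The Sylow 2-subgroups
-/

set_option autoImplicit false
set_option linter.dupNamespace false
set_option linter.style.haveILetI false
set_option linter.unusedSectionVars false

namespace CfsgLib.Recognition.CycNorm

open Subgroup

variable {G : Type*} [Group G] [Finite G]

/-- Generators of a dihedral group of order `2 n`. -/
def DihData (S : Subgroup G) (n : ℕ) (r s : G) : Prop :=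
  2 ≤ n ∧ r ∈ S ∧ s ∈ S ∧ orderOf r = n ∧ s * s = 1 ∧ s * r * s = r⁻¹ ∧ s ∉ zpowers r ∧ Nat.card S = 2 * n

theorem dih_of_elementary {S : Subgroup G} (h4 : Nat.card S = 4) (hel : ∀ x ∈ S, x * x = 1) :
    ∃ r s : G, DihData S 2 r s := by
  obtain ⟨r, hr, hr1⟩ := (bot_or_exists_ne_one S).resolve_left (fun e => by rw [e, card_bot] at h4; omega)
  have hor : orderOf r = 2 := CfsgLib.Invol.orderOf_eq_two_iff'.2 ⟨hr1, hel r hr⟩
  obtain ⟨s, hs, hsr⟩ : ∃ s ∈ S, s ∉ zpowers r := Set.not_subset.1 fun hle => by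
    have h := card_le_of_le (show S ≤ zpowers r from hle)
    rw [h4, Nat.card_zpowers, hor] at h
    omega
  refine ⟨r, s, le_rfl, hr, hs, hor, hel s hs, ?_, hsr, by omega⟩
  rw [CfsgLib.Invol.inv_eq_of_orderOf_two hor]
  have e := hel _ (S.mul_mem hs hr)
  calc s * r * s = s * r * (s * r) * r⁻¹ := by group
    _ = r := by rw [e, one_mul, CfsgLib.Invol.inv_eq_of_orderOf_two hor]

theorem dih_of_four (hG : CycNorm G) (S : Sylow 2 G) {D : Subgroup G} (hDS : D ≤ (S : Subgroup G))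
    (h4 : Nat.card D = 4) (hel : ∀ d ∈ D, d * d = 1)
    (hcent : ∀ x ∈ (S : Subgroup G), x ∈ centralizer (D : Set G) → x ∈ D) (hne : D ≠ (S : Subgroup G)) :
    ∃ (n : ℕ) (r s : G), DihData (S : Subgroup G) n r s := by
  haveI : Fact (Nat.Prime 2) := ⟨Nat.prime_two⟩
  have hcomm : ∀ x ∈ D, ∀ y ∈ D, x * y = y * x := fun x hx y hy => by
    have h1 := hel _ (D.mul_mem hx hy)
    calc x * y = x * (x * y * (x * y)) * y := by rw [h1, mul_one]
      _ = (x * x) * (y * x) * (y * y) := by group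
      _ = y * x := by rw [hel x hx, hel y hy, one_mul, mul_one]
  have hnab : ¬ ∀ x ∈ (S : Subgroup G), ∀ y ∈ (S : Subgroup G), x * y = y * x := fun h =>
    hne (le_antisymm hDS fun x hx => hcent x hx (mem_centralizer_iff.2 fun d hd => h d (hDS hd) x hx))
  obtain ⟨m, hm⟩ := IsPGroup.iff_card.1 S.2
  have hcl : Group.nilpotencyClass (S : Subgroup G) = m - 1 := by
    refine CfsgLib.Transfer.nilpotencyClass_of_self_centralizing hm (D.subgroupOf S) ?_ ?_
    · rw [Nat.card_congr (subgroupOfEquivOfLe hDS).toEquiv, h4]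
      rfl
    · refine le_antisymm (fun x hx => ?_) fun x hx => mem_centralizer_iff.2 fun y hy =>
        Subtype.ext (hcomm y hy x hx)
      exact mem_subgroupOf.2 (hcent x x.2 (mem_centralizer_iff.2 fun y hy =>
        congrArg Subtype.val (mem_centralizer_iff.1 hx ⟨y, hDS hy⟩ hy)))
  haveI := (S.2).isNilpotent
  have hm3 : 3 ≤ m := by
    by_contra h
    haveI := Group.IsNilpotent.nilpotencyClass_le_one_iff.1
      (show Group.nilpotencyClass (S : Subgroup G) ≤ 1 by omega)
    exact hnab fun x hx y hy =>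
      congrArg Subtype.val (IsMulCommutative.is_comm.comm (⟨x, hx⟩ : (S : Subgroup G)) ⟨y, hy⟩)
  obtain ⟨hidx, hsq⟩ := CfsgLib.Transfer.squares_mem_commutator hm3 hm hcl
  obtain ⟨-, C, hCc, hCi⟩ := CfsgLib.Transfer.maximalClass_two hm hidx hsq
  obtain ⟨g, hg⟩ := hCc.exists_generator
  set c : G := ((g : (S : Subgroup G)) : G) with hcdef
  have hcS : c ∈ (S : Subgroup G) := (g : (S : Subgroup G)).2
  have hmem : ∀ x (hx : x ∈ (S : Subgroup G)), x ∈ zpowers c ↔ (⟨x, hx⟩ : (S : Subgroup G)) ∈ C := by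
    intro x hx
    constructor
    · rintro ⟨i, hi⟩
      have : (⟨x, hx⟩ : (S : Subgroup G)) = (g : (S : Subgroup G)) ^ i := Subtype.ext (by simpa [c] using hi.symm)
      rw [this]; exact C.zpow_mem g.2 i
    · intro h
      obtain ⟨i, hi⟩ := hg ⟨_, h⟩
      exact ⟨i, by simpa [c] using congrArg (fun z : C => ((z : (S : Subgroup G)) : G)) hi⟩
  have key : ∀ x ∈ (S : Subgroup G), ∀ y ∈ (S : Subgroup G),
      x * y ∈ zpowers c ↔ (x ∈ zpowers c ↔ y ∈ zpowers c) := by
    intro x hx y hy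
    rw [hmem x hx, hmem y hy, hmem _ (mul_mem hx hy)]
    exact mul_mem_iff_of_index_two (a := (⟨x, hx⟩ : (S : Subgroup G))) (b := ⟨y, hy⟩) hCi
  have hcard : Nat.card (S : Subgroup G) = 2 * orderOf c := by
    rw [← C.index_mul_card, hCi]
    congr 1
    rw [← orderOf_eq_card_of_forall_mem_zpowers hg, ← orderOf_coe, ← orderOf_coe]
  have hord : ∀ x ∈ D, x ≠ 1 → orderOf x = 2 := fun x hx h1 =>
    CfsgLib.Invol.orderOf_eq_two_iff'.2 ⟨h1, hel x hx⟩
  obtain ⟨v, hvD, hvc⟩ : ∃ v ∈ D, v ∉ zpowers c := Set.not_subset.1 fun hle => by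
    obtain ⟨a, ha, ha1⟩ := (bot_or_exists_ne_one D).resolve_left (fun e => by rw [e, card_bot] at h4; omega)
    have h : D ≤ zpowers a := fun x hx => by
      by_cases hx1 : x = 1
      · exact hx1 ▸ one_mem _
      · rw [CfsgLib.Invol.mem_zpowers_unique_involution (hle hx) (hle ha) (hord x hx hx1) (hord a ha ha1)]
        exact mem_zpowers a
    have := card_le_of_le h
    rw [h4, Nat.card_zpowers, hord a ha ha1] at this
    omega
  have hv1 : v ≠ 1 := fun e => hvc (e ▸ one_mem _)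
  have hvv := hel v hvD
  have hvS := hDS hvD
  obtain ⟨t, htD, htc, ht1⟩ : ∃ t ∈ D, t ∈ zpowers c ∧ t ≠ 1 := by
    obtain ⟨u, hu, huv⟩ : ∃ u ∈ D, u ∉ zpowers v := Set.not_subset.1 fun hle => by
      have := card_le_of_le (show D ≤ zpowers v from hle)
      rw [h4, Nat.card_zpowers, hord v hvD hv1] at this
      omega
    by_cases huc : u ∈ zpowers c
    · exact ⟨u, hu, huc, fun e => huv (e ▸ one_mem _)⟩
    · refine ⟨v * u, D.mul_mem hvD hu, (key v hvS u (hDS hu)).2 (iff_of_false hvc huc), fun e => huv ?_⟩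
      rw [← inv_eq_of_mul_eq_one_right e]
      exact inv_mem (mem_zpowers v)
  have hto := hord t htD ht1
  have hfix : ∀ x ∈ zpowers c, x * v = v * x → x = 1 ∨ x = t := by
    intro x hx hxv
    have hxt : x * t = t * x := by
      obtain ⟨i, rfl⟩ := hx
      obtain ⟨j, rfl⟩ := htc
      exact (Commute.refl c).zpow_zpow i j
    have hxD : x ∈ D := hcent x (zpowers_le.2 hcS hx) (mem_centralizer_iff.2 fun d hd => by
      have hsmall : ∀ e ∈ D, e ∈ zpowers c → e * x = x * e := fun e he hec => by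
        by_cases he1 : e = 1
        · simp [he1]
        · rw [CfsgLib.Invol.mem_zpowers_unique_involution hec htc (hord e he he1) hto, hxt]
      by_cases hdc : d ∈ zpowers c
      · exact hsmall d hd hdc
      · have h1 := hsmall (d * v) (D.mul_mem hd hvD) ((key d (hDS hd) v hvS).2 (iff_of_false hdc hvc))
        calc d * x = (d * v) * (v * x) := by rw [mul_assoc d v, ← mul_assoc v v, hvv, one_mul]
          _ = (d * v) * x * v := by rw [← hxv]; group
          _ = x * (d * v) * v := by rw [h1]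
          _ = x * d := by rw [mul_assoc, mul_assoc d v v, hvv, mul_one])
    by_cases hx1 : x = 1
    · exact Or.inl hx1
    · exact Or.inr (CfsgLib.Invol.mem_zpowers_unique_involution hx htc (hord x hxD hx1) hto)
  have hvi : v⁻¹ = v := inv_eq_of_mul_eq_one_right hvv
  haveI : C.Normal := normal_of_index_eq_two hCi
  have hnorm : v * c * v⁻¹ ∈ zpowers c := (hmem _ (mul_mem (mul_mem hvS hcS) (inv_mem hvS))).2
    ((inferInstance : C.Normal).conj_mem _ g.2 ⟨v, hvS⟩)
  have hcomm' : Commute c (v * c * v⁻¹) := by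
    obtain ⟨i, hi⟩ := hnorm
    exact hi ▸ (Commute.refl c).zpow_right i
  have hs := hfix (c * (v * c * v⁻¹)) (mul_mem (mem_zpowers c) hnorm) (by
    symm
    rw [← mul_inv_eq_iff_eq_mul]
    calc v * (c * (v * c * v⁻¹)) * v⁻¹ = (v * c * v⁻¹) * ((v * v) * c * (v * v)⁻¹) := by group
      _ = (v * c * v⁻¹) * c := by rw [hvv]; group
      _ = c * (v * c * v⁻¹) := hcomm'.symm.eq)
  have hn4 : 4 ≤ orderOf c := by
    have h8 : 2 ^ 3 ≤ 2 ^ m := Nat.pow_le_pow_right two_pos hm3
    have h2 : 2 ^ m = 2 * orderOf c := hm.symm.trans hcard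
    omega
  rcases hs with hs | hs
  · exact ⟨orderOf c, c, v, by omega, hcS, hvS, rfl, hvv,
      by rw [← eq_inv_of_mul_eq_one_right hs, hvi], hvc, hcard⟩
  exfalso
  have hB : v * c * v⁻¹ = c⁻¹ * t := by rw [← hs, inv_mul_cancel_left]
  have hct : Commute c t := by
    obtain ⟨i, hi⟩ := htc
    exact hi ▸ (Commute.refl c).zpow_right i
  have hvt : Commute v t := hcomm v hvD t htD
  have hc2 : c * c ≠ 1 := fun e => by
    have : orderOf c ∣ 2 := orderOf_dvd_of_pow_eq_one (by rw [pow_two, e])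
    have := Nat.le_of_dvd two_pos this
    omega
  have hc2t : c * c ≠ t := fun e => by
    have h : v * c * v⁻¹ = c := by rw [hB, ← e]; group
    rcases hfix c (mem_zpowers c) (mul_inv_eq_iff_eq_mul.1 h).symm with h1 | h1
    · exact hc2 (by rw [h1, one_mul])
    · exact hc2 (by rw [h1]; exact hel t htD)
  set w := c * v with hw
  have hw2 : w * w = t := by
    calc w * w = c * (v * c * v⁻¹) * (v * v) := by rw [hw]; group
      _ = t := by rw [hs, hvv, mul_one]
  have htw : t ∈ zpowers w := hw2 ▸ mul_mem (mem_zpowers w) (mem_zpowers w)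
  have hcN : c ∈ normalizer (zpowers w : Set G) :=
    cent_invol_eq hG htw hto ▸ mem_centralizer_singleton_iff.2 hct.eq
  obtain ⟨j, hj⟩ := (mem_normalizer_iff.1 hcN w).1 (mem_zpowers w)
  simp only at hj
  have hz : c * w * c⁻¹ = c * c * w * t := by
    calc c * w * c⁻¹ = c * c * (v * c * v⁻¹)⁻¹ * v := by rw [hw]; group
      _ = c * c * (t⁻¹ * c) * v := by rw [hB]; group
      _ = c * c * (c * t) * v := by
          rw [CfsgLib.Invol.inv_eq_of_orderOf_two hto, ← hct.eq]
      _ = c * c * (c * (t * v)) := by group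
      _ = _ := by rw [← hvt.eq, hw]; group
  have ht2 : t ^ (2 : ℤ) = 1 := by rw [zpow_two]; exact hel t htD
  have hw4 : w ^ (4 : ℤ) = 1 := by
    rw [show (4 : ℤ) = 2 * 2 by norm_num, zpow_mul, zpow_two w, hw2, ht2]
  rw [hz] at hj
  obtain ⟨i, hi, hi'⟩ : ∃ i : ℤ, (i = 0 ∨ i = 1 ∨ i = 2 ∨ i = 3) ∧ w ^ j = w ^ i := by
    refine ⟨j % 4, by omega, ?_⟩
    conv_lhs => rw [← Int.mul_ediv_add_emod j 4, zpow_add, zpow_mul, hw4, one_zpow, one_mul]
  rw [hi'] at hj
  have hwc : w ∉ zpowers c := fun h => hvc (by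
    have := mul_mem (inv_mem (mem_zpowers c)) h
    rwa [hw, inv_mul_cancel_left] at this)
  have hzc : c * c * w * t ∉ zpowers c := fun h => hwc (by
    have := mul_mem (mul_mem (inv_mem (mul_mem (mem_zpowers c) (mem_zpowers c))) h) (inv_mem htc)
    simpa [mul_assoc] using this)
  rcases hi with rfl | rfl | rfl | rfl
  · rw [zpow_zero] at hj
    exact hzc (hj ▸ one_mem _)
  · rw [zpow_one] at hj
    refine hc2t ?_
    calc c * c = c * c * w * t * t⁻¹ * w⁻¹ := by group
      _ = w * (w * w) * w⁻¹ := by rw [← hj, CfsgLib.Invol.inv_eq_of_orderOf_two hto, hw2]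
      _ = w * w := by group
      _ = t := hw2
  · rw [zpow_two, hw2] at hj
    exact hzc (hj ▸ htc)
  · refine hc2 ?_
    rw [show (3 : ℤ) = 1 + 2 by norm_num, zpow_add, zpow_one, zpow_two, hw2] at hj
    exact mul_eq_right.1 (mul_right_cancel hj.symm)

/-- The Sylow 2-subgroups are moved or dihedral. -/
theorem sylow_cases (hG : CycNorm G) [Nontrivial G] (hS : NoSolvNormal G) :
    ∃ S : Sylow 2 G, Moved (S : Subgroup G) ∨ ∃ (n : ℕ) (r s : G), DihData (S : Subgroup G) n r s ∧ 3 ≤ n := by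
  obtain ⟨D, hmax⟩ := exists_maxMoved hS
  obtain ⟨S, hDS⟩ := hmax.1.1.exists_le_sylow
  refine ⟨S, ?_⟩
  by_cases hne : D = (S : Subgroup G)
  · exact Or.inl (hne ▸ hmax.1)
  · obtain ⟨h4, hel⟩ := four_of_not_sylow hG hmax S hDS hne
    obtain ⟨n, r, s, hd⟩ := dih_of_four hG S hDS h4 hel (fun x hx hxC => by
      obtain ⟨k, hk⟩ := CfsgLib.Invol.exists_orderOf_eq_two_pow S.2 hx
      exact two_cent hG hmax hxC (hk ▸ pow_orderOf_eq_one x)) hne
    refine Or.inr ⟨n, r, s, hd, ?_⟩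
    by_contra h
    refine hne (eq_of_le_of_card_ge hDS ?_)
    rw [h4, hd.2.2.2.2.2.2.2]
    omega

end CfsgLib.Recognition.CycNorm
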